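import Mathlib.RingTheory.Kaehler.Basic
import Mathlib.LinearAlgebra.TensorProduct.Tower

/-!
# Base changed `mapBaseChange` from unique extension of derivations
-/

set_option autoImplicit false
universe u

open scoped TensorProduct

namespace GrothLib.ThickOmega4

variable {R A B' B : Type u} [CommRing R] [CommRing A] [CommRing B'] [CommRing B]
  [Algebra R A] [Algebra A B'] [Algebra R B'] [IsScalarTower R A B'] [Algebra B' B]

/-- If derivations into `B`-modules extend uniquely from `A` to `B'`, then
`B ⊗ (B' ⊗ Ω_{A/R}) → B ⊗ Ω_{B'/R}` is bijective. -/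
theorem baseChange_mapBaseChange_bijective
    (hex : ∀ (M : Type u) [AddCommGroup M] [Module B M] (D : A →+ M),
      (∀ a b, D (a * b) = algebraMap B' B (algebraMap A B' a) • D b +
        algebraMap B' B (algebraMap A B' b) • D a) →
      (∀ r, D (algebraMap R A r) = 0) →
      ∃! D' : B' →+ M, (∀ a b, D' (a * b) = algebraMap B' B a • D' b + algebraMap B' B b • D' a) ∧
        ∀ a, D' (algebraMap A B' a) = D a) :
    Function.Bijective ((KaehlerDifferential.mapBaseChange R A B').baseChange B) := by
  let μ := KaehlerDifferential.mapBaseChange R A B'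
  let ℓ : B ⊗[B'] (B' ⊗[A] Ω[A⁄R]) →ₗ[B] B ⊗[B'] Ω[B'⁄R] := μ.baseChange B
  have hℓ : ∀ a : A, ℓ ((1 : B) ⊗ₜ ((1 : B') ⊗ₜ KaehlerDifferential.D R A a)) =
      (1 : B) ⊗ₜ KaehlerDifferential.D R B' (algebraMap A B' a) := by
    intro a
    simp only [ℓ, LinearMap.baseChange_tmul, μ, KaehlerDifferential.mapBaseChange_tmul, one_smul,
      KaehlerDifferential.map_D]
  letI : Algebra R B := ((algebraMap B' B).comp (algebraMap R B')).toAlgebra
  haveI : IsScalarTower R B' B := .of_algebraMap_eq' rfl
  constructor
  · -- a left inverse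
    let D : A →+ B ⊗[B'] (B' ⊗[A] Ω[A⁄R]) :=
      AddMonoidHom.mk' (fun a => (1 : B) ⊗ₜ ((1 : B') ⊗ₜ KaehlerDifferential.D R A a))
        (fun a b => by simp only [map_add, TensorProduct.tmul_add])
    have hsm : ∀ (a : A) (y : Ω[A⁄R]), (1 : B) ⊗ₜ[B'] ((1 : B') ⊗ₜ[A] (a • y)) =
        algebraMap B' B (algebraMap A B' a) • ((1 : B) ⊗ₜ[B'] ((1 : B') ⊗ₜ[A] y)) := by
      intro a y
      rw [TensorProduct.tmul_smul, ← algebraMap_smul B' a ((1 : B') ⊗ₜ[A] y), TensorProduct.tmul_smul,
        ← algebraMap_smul B]
    obtain ⟨D', ⟨hD'l, hD'a⟩, -⟩ := hex _ D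
      (fun a b => by
        show (1 : B) ⊗ₜ[B'] ((1 : B') ⊗ₜ[A] KaehlerDifferential.D R A (a * b)) = _
        rw [Derivation.leibniz, TensorProduct.tmul_add, TensorProduct.tmul_add, hsm, hsm]
        rfl)
      (fun r => by
        show (1 : B) ⊗ₜ[B'] ((1 : B') ⊗ₜ[A] KaehlerDifferential.D R A (algebraMap R A r)) = 0
        rw [Derivation.map_algebraMap, TensorProduct.tmul_zero, TensorProduct.tmul_zero])
    have hR : ∀ r : R, D' (algebraMap R B' r) = 0 := fun r => by
      rw [IsScalarTower.algebraMap_apply R A B', hD'a]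
      show (1 : B) ⊗ₜ[B'] ((1 : B') ⊗ₜ[A] KaehlerDifferential.D R A (algebraMap R A r)) = 0
      rw [Derivation.map_algebraMap, TensorProduct.tmul_zero, TensorProduct.tmul_zero]
    let δ : Derivation R B' (B ⊗[B'] (B' ⊗[A] Ω[A⁄R])) := Derivation.mk'
      { toFun := D'
        map_add' := map_add D'
        map_smul' := fun r b => by
          rw [Algebra.smul_def, hD'l, hR, smul_zero, add_zero, algebraMap_smul, algebraMap_smul, RingHom.id_apply] }
      (fun a b => by
        show D' (a * b) = a • D' b + b • D' a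
        rw [hD'l, algebraMap_smul, algebraMap_smul])
    let r : B ⊗[B'] Ω[B'⁄R] →ₗ[B] B ⊗[B'] (B' ⊗[A] Ω[A⁄R]) := δ.liftKaehlerDifferential.liftBaseChange B
    have hr : ∀ v, r (ℓ v) = v := by
      intro v
      suffices H : r ∘ₗ ℓ = LinearMap.id from LinearMap.congr_fun H v
      refine TensorProduct.AlgebraTensorModule.ext fun b w => ?_
      have hb : ∀ z : B' ⊗[A] Ω[A⁄R], (r ∘ₗ ℓ) ((1 : B) ⊗ₜ z) = (1 : B) ⊗ₜ z → (r ∘ₗ ℓ) (b ⊗ₜ z) = b ⊗ₜ z := by
        intro z hz
        rw [show b ⊗ₜ[B'] z = b • ((1 : B) ⊗ₜ[B'] z) by rw [TensorProduct.smul_tmul', smul_eq_mul, mul_one],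
          map_smul, hz]
      refine hb w ?_
      induction w using TensorProduct.induction_on with
      | zero => simp only [TensorProduct.tmul_zero, map_zero]
      | add u v hu hv => simp only [TensorProduct.tmul_add, map_add, hu, hv]
      | tmul b' y =>
        have hy : y ∈ Submodule.span A (Set.range (KaehlerDifferential.D R A)) := by
          rw [KaehlerDifferential.span_range_derivation]; trivial
        induction hy using Submodule.span_induction generalizing b' with
        | zero => simp only [TensorProduct.tmul_zero, map_zero]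
        | add u v _ _ hu hv => simp only [TensorProduct.tmul_add, map_add, hu, hv]
        | smul a u _ hu =>
          rw [← TensorProduct.smul_tmul]
          exact hu _
        | mem y hy =>
          obtain ⟨a, rfl⟩ := hy
          rw [show b' ⊗ₜ[A] KaehlerDifferential.D R A a = b' • ((1 : B') ⊗ₜ[A] KaehlerDifferential.D R A a) by
            rw [TensorProduct.smul_tmul', smul_eq_mul, mul_one],
            TensorProduct.tmul_smul, ← algebraMap_smul B, map_smul]
          congr 1
          rw [LinearMap.comp_apply, hℓ]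
          show δ.liftKaehlerDifferential.liftBaseChange B _ = _
          rw [LinearMap.liftBaseChange_tmul, one_smul, Derivation.liftKaehlerDifferential_comp_D]
          exact hD'a a
    exact Function.LeftInverse.injective hr
  · rw [← LinearMap.range_eq_top]
    show LinearMap.range ℓ = ⊤
    let q := (LinearMap.range ℓ).mkQ
    have hq : q = 0 := by
      obtain ⟨E, hE, huniq⟩ := hex (_ ⧸ LinearMap.range ℓ) 0 (fun a b => by simp) (fun r => rfl)
      let D₀ : B' →+ (B ⊗[B'] Ω[B'⁄R]) ⧸ LinearMap.range ℓ :=
        AddMonoidHom.mk' (fun b => q ((1 : B) ⊗ₜ KaehlerDifferential.D R B' b))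
          (fun a b => by simp only [map_add, TensorProduct.tmul_add])
      have h₀ := huniq D₀ ⟨fun a b => by
        show q ((1 : B) ⊗ₜ KaehlerDifferential.D R B' (a * b)) = _
        rw [Derivation.leibniz, TensorProduct.tmul_add, TensorProduct.tmul_smul, TensorProduct.tmul_smul,
          ← algebraMap_smul B a, ← algebraMap_smul B b, map_add, map_smul, map_smul]
        rfl, fun a => by
        show q ((1 : B) ⊗ₜ KaehlerDifferential.D R B' (algebraMap A B' a)) = 0
        exact (Submodule.Quotient.mk_eq_zero _).2 ⟨_, hℓ a⟩⟩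
      have h₁ := huniq 0 ⟨fun a b => by simp, fun a => rfl⟩
      refine TensorProduct.AlgebraTensorModule.ext fun b y => ?_
      rw [show b ⊗ₜ[B'] y = b • ((1 : B) ⊗ₜ[B'] y) by rw [TensorProduct.smul_tmul', smul_eq_mul, mul_one],
        map_smul, map_smul]
      congr 1
      have hy : y ∈ Submodule.span B' (Set.range (KaehlerDifferential.D R B')) := by
        rw [KaehlerDifferential.span_range_derivation]; trivial
      induction hy using Submodule.span_induction with
      | mem y hy =>
        obtain ⟨b', rfl⟩ := hy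
        exact DFunLike.congr_fun (h₀.trans h₁.symm) b'
      | zero => simp
      | add u v _ _ hu hv => simp [TensorProduct.tmul_add, hu, hv]
      | smul a u _ hu =>
        rw [TensorProduct.tmul_smul, ← algebraMap_smul B, map_smul, map_smul, hu, LinearMap.zero_apply]
    exact (Submodule.ker_mkQ _).symm.trans (by rw [show (LinearMap.range ℓ).mkQ = 0 from hq, LinearMap.ker_zero])

end GrothLib.ThickOmega4
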