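import Groth.Agent.Lib.LCI6.Descent
import Groth.Agent.Lib.SeqKinds.Basic
import Groth.Agent.Lib.LCI6.Cancel
import Mathlib.RingTheory.MvPolynomial.Localization
import Mathlib.RingTheory.Flat.Basic
import Mathlib.RingTheory.Localization.LocalizationLocalization

/-!
# Lifting a presentation with H1-regular equations along a square zero surjection
-/

set_option autoImplicit false
set_option linter.style.haveILetI false
set_option maxHeartbeats 1600000
set_option backward.isDefEq.respectTransparency false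
universe u

open TensorProduct

namespace GrothLib.ThickOmega4

/-- Localising a surjection at a prime. -/
theorem surjective_and_ker_le_of_atPrime {R R' S S' : Type u} [CommRing R] [CommRing R'] [CommRing S] [CommRing S']
    [Algebra R S] [Algebra R' S'] (φ : R →+* R') (hφ : Function.Surjective φ) (𝔮 : Ideal R') [𝔮.IsPrime]
    (𝔭 : Ideal R) [𝔭.IsPrime] (h𝔭 : 𝔮.comap φ = 𝔭) [IsLocalization.AtPrime S 𝔭] [IsLocalization.AtPrime S' 𝔮]
    (ψ : S →+* S') (hψ : ψ.comp (algebraMap R S) = (algebraMap R' S').comp φ) :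
    Function.Surjective ψ ∧ RingHom.ker ψ ≤ (RingHom.ker φ).map (algebraMap R S) := by
  have hψ' : ∀ r, ψ (algebraMap R S r) = algebraMap R' S' (φ r) := RingHom.congr_fun hψ
  refine ⟨fun x => ?_, fun x hx => ?_⟩
  · obtain ⟨p, t, rfl⟩ := IsLocalization.exists_mk'_eq 𝔮.primeCompl x
    obtain ⟨p, rfl⟩ := hφ p
    obtain ⟨t, ht⟩ := t
    obtain ⟨t, rfl⟩ := hφ t
    have ht' : t ∈ 𝔭.primeCompl := fun h => ht (by rw [← h𝔭] at h; exact h)
    refine ⟨IsLocalization.mk' S p (⟨t, ht'⟩ : 𝔭.primeCompl), ?_⟩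
    rw [IsLocalization.eq_mk'_iff_mul_eq, ← hψ', ← hψ']
    show _ * ψ (algebraMap R S (⟨t, ht'⟩ : 𝔭.primeCompl)) = _
    rw [← map_mul, IsLocalization.mk'_spec]
  · obtain ⟨p, t, rfl⟩ := IsLocalization.exists_mk'_eq 𝔭.primeCompl x
    have h1 : algebraMap R' S' (φ p) = 0 := by
      rw [← hψ', ← IsLocalization.mk'_spec S p t, map_mul, show ψ (IsLocalization.mk' S p t) = 0 from hx, zero_mul]
    obtain ⟨⟨s, hs⟩, hsp⟩ := (IsLocalization.map_eq_zero_iff 𝔮.primeCompl S' _).1 h1
    obtain ⟨s, rfl⟩ := hφ s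
    rw [IsLocalization.mk'_mem_map_algebraMap_iff]
    exact ⟨s, fun h => hs (by rw [← h𝔭] at h; exact h), show φ (s * p) = 0 by rw [map_mul]; exact hsp⟩

/-- H1-regularity modulo an ideal, read in any model of the quotient. -/
theorem isH1Regular_quotient {S S' : Type u} [CommRing S] [CommRing S'] (ρ : S →+* S') (hρ : Function.Surjective ρ)
    {I : Ideal S} (hI : I = RingHom.ker ρ) {r : ℕ} (h : Fin r → S) (hh : CAlgX.IsH1Regular (ρ ∘ h)) :
    CAlgX.IsH1Regular (fun k => Ideal.Quotient.mk I (h k)) := by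
  subst hI
  let e := RingHom.quotientKerEquivOfSurjective hρ
  have : (fun k => Ideal.Quotient.mk (RingHom.ker ρ) (h k)) = e.symm.toRingHom ∘ (ρ ∘ h) :=
    funext fun k => e.injective (by simp [e, RingHom.quotientKerEquivOfSurjective_apply_mk])
  rw [this]
  exact GrothLib.SeqKinds.isH1Regular_map e.symm.toRingHom
    (RingHom.Flat.of_bijective (f := e.symm.toRingHom) e.symm.bijective) _ hh

variable {Q C₀ B : Type u} [CommRing Q] [CommRing C₀] [CommRing B] [Algebra Q B]

/-- A flat `Q`-algebra with equations, reducing to a presentation of `B` with H1-regular equations modulo `J`. -/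
structure LiftData (J : Ideal Q) (B : Type u) [CommRing B] [Algebra Q B] where
  /-- the algebra -/
  S : Type u
  [comm : CommRing S]
  [alg : Algebra Q S]
  [flat : Module.Flat Q S]
  [loc : IsLocalRing S]
  /-- the number of equations -/
  r : ℕ
  /-- the equations -/
  h : Fin r → S
  /-- the map to `B` -/
  f : S →ₐ[Q] B
  surj : Function.Surjective f
  ker : RingHom.ker f.toRingHom ≤ Ideal.span (Set.range h) ⊔ J.map (algebraMap Q S)
  mem : ∀ k, f (h k) = 0
  h1 : CAlgX.IsH1Regular (fun k => Ideal.Quotient.mk (J.map (algebraMap Q S)) (h k))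

attribute [instance] LiftData.comm LiftData.alg LiftData.flat LiftData.loc

variable {J : Ideal Q} (D : LiftData J B)

/-- `S ⊗ J → S`. -/
noncomputable def LiftData.mul : D.S ⊗[Q] ↥J →ₗ[Q] D.S :=
  (TensorProduct.rid Q D.S).toLinearMap ∘ₗ LinearMap.lTensor D.S J.subtype

theorem LiftData.mul_tmul (s : D.S) (q : J) : D.mul (s ⊗ₜ q) = (q : Q) • s := by
  simp [LiftData.mul]

theorem LiftData.mul_rTensor (x : D.S) (v : D.S ⊗[Q] ↥J) :
    D.mul (LinearMap.rTensor J (LinearMap.mulLeft Q x) v) = x * D.mul v := by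
  induction v using TensorProduct.induction_on with
  | zero => simp
  | tmul s q => rw [LinearMap.rTensor_tmul, D.mul_tmul, D.mul_tmul, LinearMap.mulLeft_apply, mul_smul_comm]
  | add v w hv hw => rw [map_add, map_add, map_add, hv, hw, mul_add]

theorem LiftData.mem_range_mul {x : D.S} (hx : x ∈ J.map (algebraMap Q D.S)) :
    x ∈ LinearMap.range D.mul := by
  induction hx using Submodule.span_induction with
  | mem y hy =>
    obtain ⟨q, hq, rfl⟩ := hy
    exact ⟨1 ⊗ₜ ⟨q, hq⟩, by rw [D.mul_tmul, Algebra.smul_def, mul_one]⟩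
  | zero => exact zero_mem _
  | add y z _ _ hy hz => exact add_mem hy hz
  | smul a y _ hy =>
    obtain ⟨w, rfl⟩ := hy
    exact ⟨LinearMap.rTensor J (LinearMap.mulLeft Q a) w, (D.mul_rTensor a w).trans (smul_eq_mul a _).symm⟩

/-- Elements of `S ⊗ J` whose product lies in the equations die in `B ⊗ J`. -/
theorem LiftData.rTensor_eq_zero_of_mul_mem (w : D.S ⊗[Q] ↥J) (hw : D.mul w ∈ Ideal.span (Set.range D.h)) :
    LinearMap.rTensor J D.f.toLinearMap w = 0 := by
  classical
  obtain ⟨a, ha⟩ := Ideal.mem_span_range_iff_exists_fun.1 hw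
  let JS := J.map (algebraMap Q D.S)
  have hmulJ : D.mul w ∈ JS := by
    clear hw ha
    induction w using TensorProduct.induction_on with
    | zero => rw [map_zero]; exact zero_mem _
    | tmul s q =>
      rw [D.mul_tmul, Algebra.smul_def]
      exact Ideal.mul_mem_right _ _ (Ideal.mem_map_of_mem _ q.2)
    | add v w hv hw => rw [map_add]; exact add_mem hv hw
  have hrel : ∑ k, Ideal.Quotient.mk JS (a k) * Ideal.Quotient.mk JS (D.h k) = 0 := by
    simp_rw [← map_mul]
    rw [← map_sum, ha, Ideal.Quotient.eq_zero_iff_mem]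
    exact hmulJ
  have key : ∀ v, v ∈ Submodule.span (D.S ⧸ JS) {v : Fin D.r → D.S ⧸ JS | ∃ i j : Fin D.r,
      v = Pi.single i (Ideal.Quotient.mk JS (D.h j)) - Pi.single j (Ideal.Quotient.mk JS (D.h i))} →
      ∃ c : Fin D.r → D.S, (∀ k, Ideal.Quotient.mk JS (c k) = v k) ∧ ∑ k, c k * D.h k = 0 := by
    intro v hv
    induction hv using Submodule.span_induction with
    | mem v hv =>
      obtain ⟨i, j, rfl⟩ := hv
      refine ⟨Pi.single i (D.h j) - Pi.single j (D.h i), fun k => ?_, ?_⟩
      · simp only [Pi.sub_apply, map_sub, Pi.apply_single (fun _ => Ideal.Quotient.mk JS) (fun _ => map_zero _)]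
      · simp only [Pi.sub_apply, sub_mul, Finset.sum_sub_distrib, Pi.single_apply, ite_mul, zero_mul,
          Finset.sum_ite_eq', Finset.mem_univ, if_true]
        ring
    | zero => exact ⟨0, fun k => by simp, by simp⟩
    | add u v _ _ hu hv =>
      obtain ⟨c, hc, hc'⟩ := hu
      obtain ⟨d, hd, hd'⟩ := hv
      exact ⟨c + d, fun k => by simp [hc k, hd k], by simp [add_mul, Finset.sum_add_distrib, hc', hd']⟩
    | smul b v _ hv =>
      obtain ⟨c, hc, hc'⟩ := hv
      obtain ⟨b, rfl⟩ := Ideal.Quotient.mk_surjective b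
      exact ⟨fun k => b * c k, fun k => by simp [hc k], by simp [mul_assoc, ← Finset.mul_sum, hc']⟩
  obtain ⟨c, hc, hc'⟩ := key _ (D.h1 _ hrel)
  have hd : ∀ k, a k - c k ∈ LinearMap.range D.mul := fun k =>
    D.mem_range_mul (Ideal.Quotient.eq.1 (hc k).symm)
  choose d hd using hd
  let w' : D.S ⊗[Q] ↥J := ∑ k, LinearMap.rTensor J (LinearMap.mulLeft Q (D.h k)) (d k)
  have hmul := D.mul_rTensor
  have hinj : Function.Injective D.mul :=
    (TensorProduct.rid Q D.S).injective.comp
      (Module.Flat.lTensor_preserves_injective_linearMap J.subtype J.injective_subtype)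
  have hw' : w = w' := hinj (by
    rw [map_sum]
    simp_rw [hmul, hd, mul_sub, mul_comm (D.h _), Finset.sum_sub_distrib]
    rw [hc', sub_zero, ha])
  rw [hw', map_sum]
  refine Finset.sum_eq_zero fun k _ => ?_
  rw [← LinearMap.comp_apply, ← LinearMap.rTensor_comp,
    show D.f.toLinearMap ∘ₗ LinearMap.mulLeft Q (D.h k) = 0 from LinearMap.ext fun s => by
      simp [D.mem k], LinearMap.rTensor_zero, LinearMap.zero_apply]

/-- Lift data exists for a presentation which is Koszul regular near the point. -/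
theorem exists_liftData {A B' : Type u} [CommRing A] [CommRing B'] [Algebra A B'] [Algebra A C₀]
    [IsLocalRing C₀] (M : Submonoid A) [IsLocalization M C₀] [IsLocalRing B] [Algebra C₀ B] [Algebra A B]
    [IsScalarTower A C₀ B] [Algebra B' B] [IsScalarTower A B' B] (𝔮 : Ideal B') [𝔮.IsPrime]
    [IsLocalization.AtPrime B 𝔮] {n : ℕ} (α : MvPolynomial (Fin n) A →ₐ[A] B') (hα : Function.Surjective α)
    (hI : LCI.IsKoszulRegularIdeal (RingHom.ker α.toRingHom))
    (π : Q →+* C₀) (hπ : Function.Surjective π) (hπJ : RingHom.ker π = J)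
    (hQB : ∀ q, algebraMap Q B q = algebraMap C₀ B (π q)) : Nonempty (LiftData J B) := by
  classical
  let bx : Fin n → B := fun i => algebraMap B' B (α (MvPolynomial.X i))
  let φ₀ : MvPolynomial (Fin n) C₀ →+* B := (MvPolynomial.aeval (R := C₀) bx).toRingHom
  let φQ : MvPolynomial (Fin n) Q →+* B := (MvPolynomial.aeval (R := Q) bx).toRingHom
  let res : MvPolynomial (Fin n) A →+* MvPolynomial (Fin n) C₀ := MvPolynomial.map (algebraMap A C₀)
  let red : MvPolynomial (Fin n) Q →+* MvPolynomial (Fin n) C₀ := MvPolynomial.map π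
  have hres : φ₀.comp res = (algebraMap B' B).comp α.toRingHom := MvPolynomial.ringHom_ext
    (fun a => by
      simp [φ₀, res, ← IsScalarTower.algebraMap_apply, AlgHom.commutes])
    (fun i => by simp [φ₀, res, bx])
  have hred : φ₀.comp red = φQ := MvPolynomial.ringHom_ext
    (fun q => by simp [φ₀, φQ, red, hQB]) (fun i => by simp [φ₀, φQ, red])
  let 𝔭₀ : Ideal (MvPolynomial (Fin n) C₀) := (IsLocalRing.maximalIdeal B).comap φ₀
  let 𝔭 : Ideal (MvPolynomial (Fin n) A) := 𝔮.comap α.toRingHom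
  let 𝔭Q : Ideal (MvPolynomial (Fin n) Q) := (IsLocalRing.maximalIdeal B).comap φQ
  haveI : 𝔭₀.IsPrime := Ideal.comap_isPrime _ _
  haveI : 𝔭.IsPrime := Ideal.comap_isPrime _ _
  haveI : 𝔭Q.IsPrime := Ideal.comap_isPrime _ _
  have h𝔭 : 𝔭₀.comap res = 𝔭 := by
    show ((IsLocalRing.maximalIdeal B).comap φ₀).comap res = _
    rw [Ideal.comap_comap, hres, ← Ideal.comap_comap]
    exact congrArg (Ideal.comap α.toRingHom) (IsLocalization.AtPrime.comap_maximalIdeal B 𝔮)
  have h𝔭Q : 𝔭₀.comap red = 𝔭Q := by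
    show ((IsLocalRing.maximalIdeal B).comap φ₀).comap red = _
    rw [Ideal.comap_comap, hred]
  let S' := Localization.AtPrime 𝔭₀
  letI : Algebra (MvPolynomial (Fin n) A) (MvPolynomial (Fin n) C₀) := res.toAlgebra
  haveI : IsLocalization (M.map (MvPolynomial.C (σ := Fin n))) (MvPolynomial (Fin n) C₀) :=
    MvPolynomial.isLocalization M C₀
  haveI : IsLocalization.AtPrime S' 𝔭 := by
    have h1 := IsLocalization.isLocalization_isLocalization_atPrime_isLocalization
      (M := M.map (MvPolynomial.C (σ := Fin n))) S' 𝔭₀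
    have h2 : (𝔭₀.comap (algebraMap (MvPolynomial (Fin n) A) (MvPolynomial (Fin n) C₀))).primeCompl =
        𝔭.primeCompl := Submonoid.ext fun x => not_congr (SetLike.ext_iff.1 h𝔭 x)
    show IsLocalization 𝔭.primeCompl S'
    rw [← h2]
    exact h1
  -- the map to `B`
  let ε : S' →+* B := IsLocalization.lift (M := 𝔭₀.primeCompl) (g := φ₀) fun y => by
    by_contra hy
    exact y.2 ((IsLocalRing.mem_maximalIdeal _).2 hy)
  have hε : ∀ p, ε (algebraMap _ S' p) = φ₀ p := IsLocalization.lift_eq _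
  obtain ⟨hεs, hεk⟩ := surjective_and_ker_le_of_atPrime (S := S') (S' := B) α.toRingHom hα 𝔮 𝔭 rfl ε
    (RingHom.ext fun p => (hε (res p)).trans (RingHom.congr_fun hres p))
  -- the equations
  obtain ⟨g, hg, l, hl, hlI⟩ := hI ⟨𝔭, inferInstance⟩ (fun p hp => by
    show α p ∈ 𝔮
    rw [show α p = 0 from hp]
    exact zero_mem _)
  obtain ⟨l', -, hl', hlI'⟩ := GrothLib.LCI6.exists_atPrime_list g l hl hlI 𝔭 hg
  let e : Localization.AtPrime 𝔭 ≃ₐ[MvPolynomial (Fin n) A] S' := IsLocalization.algEquiv 𝔭.primeCompl _ _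
  let l₀ := l'.map e
  have hl₀ : LCI.IsKoszulRegularSeq S' l₀ := GrothLib.LCI6.isKoszulRegularSeq_equiv e.toRingEquiv l' hl'
  have hl₀I : (RingHom.ker α.toRingHom).map (algebraMap _ S') = Ideal.ofList l₀ := by
    rw [← e.toAlgHom.comp_algebraMap, ← Ideal.map_map, hlI', Ideal.map_ofList]
    rfl
  let h₀ : Fin l₀.length → S' := l₀.get
  have hh₀ : CAlgX.IsH1Regular h₀ := GrothLib.SeqKinds.isH1Regular_of_isKoszulRegularSeq _ hl₀
  have hspan : Ideal.span (Set.range h₀) = Ideal.ofList l₀ := by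
    rw [Ideal.ofList, Set.range_list_get]
  -- the lift
  let S := Localization.AtPrime 𝔭Q
  let ρ : S →+* S' := Localization.localRingHom 𝔭Q 𝔭₀ red h𝔭Q.symm
  have hρa : ∀ p, ρ (algebraMap _ S p) = algebraMap _ S' (red p) :=
    Localization.localRingHom_to_map 𝔭Q 𝔭₀ red h𝔭Q.symm
  obtain ⟨hρs, hρk⟩ := surjective_and_ker_le_of_atPrime red (MvPolynomial.map_surjective π hπ) 𝔭₀ 𝔭Q h𝔭Q ρ
    (RingHom.ext hρa)
  haveI : Module.Flat Q S := Module.Flat.trans Q (MvPolynomial (Fin n) Q) S
  have hker : RingHom.ker ρ = J.map (algebraMap Q S) := by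
    refine le_antisymm (hρk.trans ?_) ?_
    · rw [show RingHom.ker red = J.map MvPolynomial.C from (MvPolynomial.ker_map π).trans (by rw [hπJ]),
        Ideal.map_map]
      exact le_of_eq (by rw [IsScalarTower.algebraMap_eq Q (MvPolynomial (Fin n) Q) S]; rfl)
    · rw [Ideal.map_le_iff_le_comap]
      intro q hq
      show ρ (algebraMap Q S q) = 0
      rw [IsScalarTower.algebraMap_apply Q (MvPolynomial (Fin n) Q) S, hρa, MvPolynomial.algebraMap_eq,
        MvPolynomial.map_C]
      rw [← hπJ] at hq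
      rw [show π q = 0 from hq, map_zero, map_zero]
  choose h hh using fun k => hρs (h₀ k)
  have hεα : ∀ p ∈ RingHom.ker α.toRingHom, ε (algebraMap _ S' p) = 0 := fun p hp => by
    show ε (algebraMap (MvPolynomial (Fin n) C₀) S' (res p)) = 0
    rw [hε, ← RingHom.comp_apply, hres, RingHom.comp_apply, show α.toRingHom p = 0 from hp, map_zero]
  have hεh : ∀ k, ε (h₀ k) = 0 := by
    intro k
    have : h₀ k ∈ (RingHom.ker α.toRingHom).map (algebraMap _ S') := by
      rw [hl₀I, ← hspan]
      exact Ideal.subset_span ⟨k, rfl⟩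
    exact (Ideal.map_le_iff_le_comap (K := RingHom.ker ε)).2 hεα this
  let f : S →ₐ[Q] B :=
    { ε.comp ρ with
      commutes' := fun q => by
        show ε (ρ (algebraMap Q S q)) = _
        rw [IsScalarTower.algebraMap_apply Q (MvPolynomial (Fin n) Q) S, hρa, hε, ← RingHom.comp_apply, hred]
        exact (MvPolynomial.aeval bx).commutes q }
  refine ⟨{ S := S, r := l₀.length, h := h, f := f, surj := hεs.comp hρs, ker := ?_, mem := ?_, h1 := ?_ }⟩
  · intro x hx
    have h2 : ρ x ∈ Ideal.span (Set.range h₀) := by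
      rw [hspan, ← hl₀I]
      exact hεk hx
    obtain ⟨c, hc⟩ := Ideal.mem_span_range_iff_exists_fun.1 h2
    choose c' hc' using fun k => hρs (c k)
    have h3 : x - ∑ k, c' k * h k ∈ RingHom.ker ρ := by
      rw [RingHom.mem_ker, map_sub, map_sum, ← hc]
      simp [hc', hh]
    rw [hker] at h3
    rw [← sub_add_cancel x (∑ k, c' k * h k)]
    exact add_mem (Submodule.mem_sup_right h3)
      (Submodule.mem_sup_left (Ideal.sum_mem _ fun k _ => Ideal.mul_mem_left _ _ (Ideal.subset_span ⟨k, rfl⟩)))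
  · intro k
    show ε (ρ (h k)) = 0
    rw [hh]
    exact hεh k
  · exact isH1Regular_quotient ρ hρs hker.symm h (by
      rw [show (⇑ρ ∘ h) = h₀ from funext hh]
      exact hh₀)

end GrothLib.ThickOmega4
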