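import Groth.Agent.Lib.ThickOmega4.TransStalk
import Groth.Agent.Lib.ConStalk4.Transitivity
import Groth.Agent.Lib.ConStalk4.Functorial

/-!
# Universal thickenings of a composite: the sequence of conormal sheaves
-/

set_option autoImplicit false
set_option linter.style.haveILetI false
set_option backward.isDefEq.respectTransparency false
set_option maxHeartbeats 1000000

universe u

open CategoryTheory CategoryTheory.Limits AlgebraicGeometry Opposite TopologicalSpace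
open GrothLib GrothLib.OmegaUniv GrothLib.ConStalk4
open GrothLib.IdealModSec (val)

noncomputable section

namespace GrothLib.ThickOmega4

theorem app_mres {W : Scheme.{u}} {M N : W.Modules} (φ : M ⟶ N) {U V : W.Opens} (h : V ≤ U) (x : Γ(M, U)) :
    φ.app V (InvExt.mres M h x) = InvExt.mres N h (φ.app U x) :=
  ConcreteCategory.congr_hom (φ.mapPresheaf.naturality (homOfLE h).op) x

variable {Z Y X Z' Y' Z'' : Scheme.{u}} {b : Y ⟶ X} {j : Y ⟶ Y'} {d : Y' ⟶ X}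
  {i'' : Z ⟶ Z''} {e : Z'' ⟶ Y} {n : Z'' ⟶ Z'} {c : Z' ⟶ X} {m : Z' ⟶ Y'}
  [IsImmersion j] [QuasiCompact j] [IsImmersion i''] [QuasiCompact i''] [IsImmersion (i'' ≫ n)]
  [QuasiCompact (i'' ≫ n)]
  (ψ₁ : (Scheme.Modules.pullback (i'' ≫ e)).obj (Omega.conormal j) ⟶ Omega.conormal (i'' ≫ n))
  (hψ₁ : OmegaSh.IsConormalMap (i'' ≫ n) j m (i'' ≫ e) ψ₁)
  (ψ₂ : (Scheme.Modules.pullback (𝟙 Z)).obj (Omega.conormal (i'' ≫ n)) ⟶ Omega.conormal i'')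
  (hψ₂ : OmegaSh.IsConormalMap i'' (i'' ≫ n) n (𝟙 Z) ψ₂)
  (hnm : n ≫ m = e ≫ j)

include hψ₁

/-- The first map on the generating sections. -/
theorem fst_app (U : Y'.Opens) (q : Γ(ClSub.idealMod j.ker, U)) :
    ∃ (s : Γ(ClSub.idealMod (i'' ≫ n).ker, m ⁻¹ᵁ U))
      (h₂ : (i'' ≫ e) ⁻¹ᵁ (j ⁻¹ᵁ U) ≤ (i'' ≫ n) ⁻¹ᵁ (m ⁻¹ᵁ U)),
      val (i'' ≫ n).ker _ s = m.app U (val j.ker U q) ∧
      ψ₁.app ((i'' ≫ e) ⁻¹ᵁ (j ⁻¹ᵁ U))
          (OmegaSh.pullSect (i'' ≫ e) (Omega.conormal j) (j ⁻¹ᵁ U) (OmegaSh.conormalSect j U q)) =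
        InvExt.mres (Omega.conormal (i'' ≫ n)) h₂ (OmegaSh.conormalSect (i'' ≫ n) (m ⁻¹ᵁ U) s) := by
  obtain ⟨s, hs⟩ := exists_val_of_app_eq_zero (i'' ≫ n) (m ⁻¹ᵁ U) (m.app U (val j.ker U q))
    (app_val_sq hψ₁.1 U q)
  refine ⟨s, preimage_sq_le hψ₁.1 U, hs, ?_⟩
  exact (InvExt.mres_self (Omega.conormal (i'' ≫ n)) (V := (i'' ≫ e) ⁻¹ᵁ (j ⁻¹ᵁ U)) _).symm.trans
    (hψ₁.2 U q s hs ((i'' ≫ e) ⁻¹ᵁ (j ⁻¹ᵁ U)) le_rfl (preimage_sq_le hψ₁.1 U))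

include hψ₂ hnm

theorem comp_unId_eq_zero : ψ₁ ≫ unId ψ₂ = 0 := by
  let adj := Scheme.Modules.pullbackPushforwardAdjunction (i'' ≫ e)
  refine (adj.homEquiv _ _).injective (PPGen.hom_ext_pullSect j (M := ClSub.idealMod j.ker)
    (G := (Scheme.Modules.pushforward (i'' ≫ e)).obj (Omega.conormal i'')) _ _ fun U q => ?_)
  refine (congr($(adj.homEquiv_unit _ _ (ψ₁ ≫ unId ψ₂)).app (j ⁻¹ᵁ U) (OmegaSh.conormalSect j U q))).trans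
    (Eq.trans ?_ (congr($(adj.homEquiv_unit _ _ (0 : (Scheme.Modules.pullback (i'' ≫ e)).obj (Omega.conormal j) ⟶
      Omega.conormal i'')).app (j ⁻¹ᵁ U) (OmegaSh.conormalSect j U q))).symm)
  show (unId ψ₂).app _ (ψ₁.app ((i'' ≫ e) ⁻¹ᵁ (j ⁻¹ᵁ U))
    (OmegaSh.pullSect (i'' ≫ e) (Omega.conormal j) (j ⁻¹ᵁ U) (OmegaSh.conormalSect j U q))) = 0
  obtain ⟨s, h₂, hs, hs'⟩ := fst_app ψ₁ hψ₁ U q
  obtain ⟨t, ht, ht'⟩ := conormalMap_app n i'' ψ₂ hψ₂ (m ⁻¹ᵁ U) s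
  have ht0 : t = 0 := IdealModSec.val_injective i''.ker _ (by
    rw [ht, hs, IdealModSec.val_zero]
    have key : ∀ (r : Z'' ⟶ Y'), r = e ≫ j → r.app U (val j.ker U q) = 0 := by
      rintro r rfl
      show e.app _ (j.app U (val j.ker U q)) = 0
      rw [H1Sheaf6.app_val_eq_zero, map_zero]
    exact key (n ≫ m) hnm)
  refine (congrArg ((unId ψ₂).app _) hs').trans ?_
  refine (app_mres (unId ψ₂) h₂ _).trans ?_
  refine (congrArg (InvExt.mres (Omega.conormal i'') h₂) ht').trans ?_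
  rw [ht0]
  refine (congrArg (InvExt.mres (Omega.conormal i'') h₂) (map_zero _)).trans ?_
  exact map_zero _

omit hψ₁ hnm in
theorem epi_unId (hsurj : ∀ z, Function.Surjective (n.stalkMap (i'' z)).hom) : Epi (unId ψ₂) := by
  rw [OX.epi_iff]
  intro z
  rw [ModuleCat.epi_iff_surjective]
  show Function.Surjective (stalkLin z (unId ψ₂))
  intro x
  obtain ⟨k, rfl⟩ := cls_surjective i'' z x
  obtain ⟨a, ha⟩ := hsurj z (k : Z''.presheaf.stalk (i'' z))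
  have haK : a ∈ K (i'' ≫ n) z := by
    show ((i'' ≫ n).stalkMap z).hom a = 0
    rw [stalkMap_comp_apply (p := n) i'' z a, ha]
    exact k.2
  exact ⟨cls (i'' ≫ n) z ⟨a, haK⟩,
    (stalkLin_conormalMap_cls n i'' z ψ₂ hψ₂ ⟨a, haK⟩).trans (congrArg _ (Subtype.ext ha))⟩

theorem exact_unId (hsq : ∀ z, K i'' z ^ 2 = ⊥)
    (hker : ∀ z, RingHom.ker (n.stalkMap (i'' z)).hom ≤ pulledIdeal j i'' n m z)
    (w : ψ₁ ≫ unId ψ₂ = 0) : (ShortComplex.mk ψ₁ (unId ψ₂) w).Exact := by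
  rw [OX.exact_iff]
  intro z
  rw [ShortComplex.moduleCat_exact_iff]
  intro (x : St z (Omega.conormal (i'' ≫ n))) (hx : stalkLin z (unId ψ₂) x = 0)
  show ∃ x', stalkLin z ψ₁ x' = x
  obtain ⟨l, rfl⟩ := cls_surjective (i'' ≫ n) z x
  have hl : (n.stalkMap (i'' z)).hom (l : Z'.presheaf.stalk ((i'' ≫ n) z)) = 0 := by
    have h := (cls_eq_zero_iff i'' z _).1 ((stalkLin_conormalMap_cls n i'' z ψ₂ hψ₂ l).symm.trans hx)
    rw [hsq z, Ideal.mem_bot] at h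
    exact h
  have hmem := hker z hl
  suffices H : ∀ p ∈ pulledIdeal j i'' n m z, ∃ hp : p ∈ K (i'' ≫ n) z,
      ∃ x', stalkLin z ψ₁ x' = cls (i'' ≫ n) z ⟨p, hp⟩ from (H _ hmem).2
  intro p hp
  induction hp using Submodule.span_induction with
  | zero => exact ⟨zero_mem _, 0, by rw [map_zero]; exact (map_zero (cls (i'' ≫ n) z)).symm⟩
  | add p q _ _ hp hq =>
    obtain ⟨hp, xp, hxp⟩ := hp
    obtain ⟨hq, xq, hxq⟩ := hq
    exact ⟨add_mem hp hq, xp + xq, by rw [map_add, hxp, hxq]; exact ((cls (i'' ≫ n) z).map_add ⟨p, hp⟩ ⟨q, hq⟩).symm⟩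
  | smul r p _ hp =>
    obtain ⟨hp, xp, hxp⟩ := hp
    exact ⟨Ideal.mul_mem_left _ r hp, ((i'' ≫ n).stalkMap z).hom r • xp, by
      rw [map_smul, hxp]; exact (cls_smul (i'' ≫ n) z r ⟨p, hp⟩).symm⟩
  | mem p hp =>
    obtain ⟨U, hU, q, rfl⟩ := hp
    obtain ⟨s, h₂, hs, hs'⟩ := fst_app ψ₁ hψ₁ U q
    have hzU : z ∈ (i'' ≫ e) ⁻¹ᵁ (j ⁻¹ᵁ U) := by
      show j (e (i'' z)) ∈ U
      rw [show j (e (i'' z)) = m (n (i'' z)) from (congr($hnm (i'' z))).symm]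
      exact hU
    have hsK : Z'.presheaf.germ (m ⁻¹ᵁ U) ((i'' ≫ n) z) hU (val (i'' ≫ n).ker _ s) ∈ K (i'' ≫ n) z :=
      H1Sheaf6.stalkMap_germ_val (i'' ≫ n) (m ⁻¹ᵁ U) s z hU
    refine ⟨hs ▸ hsK, OX.germ (DCoh.toP.obj ((Scheme.Modules.pullback (i'' ≫ e)).obj (Omega.conormal j)))
      ((i'' ≫ e) ⁻¹ᵁ (j ⁻¹ᵁ U)) hzU
      (OmegaSh.pullSect (i'' ≫ e) (Omega.conormal j) (j ⁻¹ᵁ U) (OmegaSh.conormalSect j U q)), ?_⟩
    refine (stalkLin_germ z ψ₁ ((i'' ≫ e) ⁻¹ᵁ (j ⁻¹ᵁ U)) hzU _).trans ?_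
    refine (congrArg (OX.germ (DCoh.toP.obj (Omega.conormal (i'' ≫ n))) ((i'' ≫ e) ⁻¹ᵁ (j ⁻¹ᵁ U)) hzU) hs').trans ?_
    refine (OX.germ_map (DCoh.toP.obj (Omega.conormal (i'' ≫ n))) (homOfLE h₂) hzU _).trans ?_
    refine (cls_germ (i'' ≫ n) z (m ⁻¹ᵁ U) hU s hsK).symm.trans (congrArg _ (Subtype.ext ?_))
    exact congrArg (Z'.presheaf.germ (m ⁻¹ᵁ U) ((i'' ≫ n) z) hU) hs

end GrothLib.ThickOmega4
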