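import Groth.Agent.Lib.ThickOmega4.LciAlg
import Groth.Agent.Lib.ThickOmega4.TransExact
import Groth.Agent.Lib.LCI6.Koszul

/-!
# Universal thickenings of a composite: injectivity for a local complete intersection
-/

set_option autoImplicit false
set_option linter.style.haveILetI false
set_option backward.isDefEq.respectTransparency false
set_option maxHeartbeats 1600000

universe u

open CategoryTheory CategoryTheory.Limits AlgebraicGeometry Opposite TopologicalSpace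
open scoped TensorProduct
open GrothLib GrothLib.OmegaUniv GrothLib.ConStalk4
open GrothLib.IdealModSec (val)

noncomputable section

namespace GrothLib.ThickOmega4

attribute [local instance] OmegaUniv.stalkAlg

/-- Lift data at a point of a local complete intersection. -/
theorem exists_liftData_stalk {Z Y Y' : Scheme.{u}} (i : Z ⟶ Y) (hlci : ∀ z, Synt.IsKoszulAt i z)
    (j : Y ⟶ Y') [IsImmersion j] (z : Z) :
    letI : Algebra (Y'.presheaf.stalk (j (i z))) (Z.presheaf.stalk z) :=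
      (j.stalkMap (i z) ≫ i.stalkMap z).hom.toAlgebra
    Nonempty (LiftData (K j (i z)) (Z.presheaf.stalk z)) := by
  letI : Algebra (Y'.presheaf.stalk (j (i z))) (Z.presheaf.stalk z) :=
    (j.stalkMap (i z) ≫ i.stalkMap z).hom.toAlgebra
  obtain ⟨V, hV, hyV, -⟩ := GrothLib.LCI6.exists_affine_le (x := i z) (O := (⊤ : Y.Opens)) trivial
  obtain ⟨U, hU, hzU, hUV⟩ := GrothLib.LCI6.exists_affine_le (x := z) (O := i ⁻¹ᵁ V) hyV
  letI : Algebra Γ(Y, V) Γ(Z, U) := (i.appLE V U hUV).hom.toAlgebra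
  obtain ⟨-, n, α, hα, hI⟩ := GrothLib.LCI6.isLCI_of_forall_inLocus i
    ((GrothLib.LCI6.inLocus_iff_of_isKoszul i).1 hlci) U V hU hV hUV
  letI : Algebra Γ(Y, V) (Y.presheaf.stalk (i z)) := (Y.presheaf.germ V (i z) hyV).hom.toAlgebra
  letI : Algebra Γ(Z, U) (Z.presheaf.stalk z) := (Z.presheaf.germ U z hzU).hom.toAlgebra
  letI : Algebra Γ(Y, V) (Z.presheaf.stalk z) :=
    ((i.stalkMap z).hom.comp (Y.presheaf.germ V (i z) hyV).hom).toAlgebra
  haveI : IsScalarTower Γ(Y, V) (Y.presheaf.stalk (i z)) (Z.presheaf.stalk z) := .of_algebraMap_eq' rfl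
  haveI : IsScalarTower Γ(Y, V) Γ(Z, U) (Z.presheaf.stalk z) := IsScalarTower.of_algebraMap_eq fun r => by
    show (i.stalkMap z).hom ((Y.presheaf.germ V (i z) hyV).hom r) =
      (Z.presheaf.germ U z hzU).hom ((i.appLE V U hUV).hom r)
    rw [Scheme.Hom.germ_stalkMap_apply, Scheme.Hom.appLE, CommRingCat.comp_apply, TopCat.Presheaf.germ_res_apply]
  haveI : IsLocalization.AtPrime (Y.presheaf.stalk (i z)) (hV.primeIdealOf ⟨i z, hyV⟩).asIdeal :=
    hV.isLocalization_stalk ⟨i z, hyV⟩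
  haveI : IsLocalization.AtPrime (Z.presheaf.stalk z) (hU.primeIdealOf ⟨z, hzU⟩).asIdeal :=
    hU.isLocalization_stalk ⟨z, hzU⟩
  exact exists_liftData (hV.primeIdealOf ⟨i z, hyV⟩).asIdeal.primeCompl (hU.primeIdealOf ⟨z, hzU⟩).asIdeal α hα hI
    (j.stalkMap (i z)).hom (j.stalkMap_surjective (i z)) rfl fun q => rfl

/-- The map on local rings at a point with prescribed image. -/
theorem exists_stalkMap_at {W W' : Scheme.{u}} (m : W ⟶ W') (w : W) (p : W') (hp : m w = p) :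
    ∃ μ : W'.presheaf.stalk p ⟶ W.presheaf.stalk w,
      Spec.map μ ≫ W'.fromSpecStalk p = W.fromSpecStalk w ≫ m ∧
      ∀ (U : W'.Opens) (hU : p ∈ U) (s : Γ(W', U)),
        μ.hom (W'.presheaf.germ U p hU s) = W.presheaf.germ (m ⁻¹ᵁ U) w (show m w ∈ U from hp.symm ▸ hU) (m.app U s) := by
  subst hp
  exact ⟨m.stalkMap w, Scheme.SpecMap_stalkMap_fromSpecStalk m, fun U hU s =>
    Scheme.Hom.germ_stalkMap_apply m U w hU s⟩

variable {Z Y X Z' Y' Z'' : Scheme.{u}} {b : Y ⟶ X} {j : Y ⟶ Y'} {d : Y' ⟶ X}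
  {i'' : Z ⟶ Z''} {e : Z'' ⟶ Y} {n : Z'' ⟶ Z'} {c : Z' ⟶ X} {m : Z' ⟶ Y'}
  [IsImmersion j] [QuasiCompact j] [IsImmersion i''] [QuasiCompact i''] [IsImmersion (i'' ≫ n)]
  [QuasiCompact (i'' ≫ n)]
  (ψ₁ : (Scheme.Modules.pullback (i'' ≫ e)).obj (Omega.conormal j) ⟶ Omega.conormal (i'' ≫ n))
  (hψ₁ : OmegaSh.IsConormalMap (i'' ≫ n) j m (i'' ≫ e) ψ₁)

include hψ₁

theorem stalkLin_fst_injective
    (hu' : OmegaSh.IsUnivThickening ((i'' ≫ e) ≫ b) (i'' ≫ n) c)
    (huY : OmegaSh.IsUnivThickening b j d)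
    (hnm : n ≫ m = e ≫ j) (hmd : m ≫ d = c) (hlci : ∀ z, Synt.IsKoszulAt (i'' ≫ e) z) (z : Z) :
    Function.Injective (stalkLin z ψ₁) := by
  classical
  let y := (i'' ≫ e) z
  let Q := Y'.presheaf.stalk (j y)
  let B := Z.presheaf.stalk z
  let i' := i'' ≫ n
  letI : Algebra Q B := (j.stalkMap y ≫ (i'' ≫ e).stalkMap z).hom.toAlgebra
  obtain ⟨D⟩ := exists_liftData_stalk (i'' ≫ e) hlci j z
  have hp : m (i' z) = j y := congr($hnm (i'' z))
  obtain ⟨μ, hμ, hμg⟩ := exists_stalkMap_at m (i' z) (j y) hp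
  have hcomp : μ ≫ i'.stalkMap z = j.stalkMap y ≫ (i'' ≫ e).stalkMap z := by
    apply Spec.map_injective
    rw [← cancel_mono (Y'.fromSpecStalk (j y)), Spec.map_comp_assoc, hμ,
      Scheme.SpecMap_stalkMap_fromSpecStalk_assoc, Spec.map_comp_assoc, Scheme.SpecMap_stalkMap_fromSpecStalk,
      Scheme.SpecMap_stalkMap_fromSpecStalk_assoc]
    simp only [i', Category.assoc, hnm]
  have hcomp' : ∀ q, (i'.stalkMap z).hom (μ.hom q) = algebraMap Q B q := fun q => congr($(hcomp).hom q)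
  have hKmem : ∀ q : K j y, μ.hom (q : Q) ∈ K i' z := fun q => by
    show (i'.stalkMap z).hom (μ.hom (q : Q)) = 0
    rw [hcomp']
    show ((i'' ≫ e).stalkMap z).hom ((j.stalkMap y).hom (q : Q)) = 0
    rw [show (j.stalkMap y).hom (q : Q) = 0 from q.2, map_zero]
  let κ : K j y →+ St z (Omega.conormal i') :=
    AddMonoidHom.mk' (fun q => cls i' z ⟨μ.hom (q : Q), hKmem q⟩) fun q q' => by
      rw [← map_add]
      exact congrArg _ (Subtype.ext (map_add μ.hom (q : Q) (q' : Q)))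
  have hκ : ∀ (a : Q) (q : K j y), κ (a • q) = algebraMap Q B a • κ q := fun a q => by
    rw [← hcomp' a]
    refine Eq.trans (congrArg (cls i' z) (Subtype.ext ?_)) (cls_smul i' z (μ.hom a) ⟨μ.hom (q : Q), hKmem q⟩)
    exact map_mul μ.hom a (q : Q)
  let Φ : B ⊗[Q] ↥(K j y) →+ St z (Omega.conormal i') :=
    TensorProduct.liftAddHom (AddMonoidHom.mk' (fun s => AddMonoidHom.mk' (fun q => s • κ q)
        fun q q' => by rw [map_add, smul_add])
      fun s s' => AddMonoidHom.ext fun q => add_smul s s' _) fun a s q => by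
      show (a • s) • κ q = s • κ (a • q)
      rw [hκ, smul_smul, Algebra.smul_def, mul_comm]
  let P := pullEquiv (i'' ≫ e) z (Omega.conormal j)
  let Ξ : B ⊗[Q] ↥(K j y) →+ St z ((Scheme.Modules.pullback (i'' ≫ e)).obj (Omega.conormal j)) :=
    TensorProduct.liftAddHom (AddMonoidHom.mk' (fun s => AddMonoidHom.mk'
        (fun q => P.symm (s ⊗ₜ cls j y q))
        fun q q' => by rw [map_add, TensorProduct.tmul_add, map_add])
      fun s s' => AddMonoidHom.ext fun q => by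
        show P.symm ((s + s') ⊗ₜ _) = P.symm (s ⊗ₜ _) + P.symm (s' ⊗ₜ _)
        rw [TensorProduct.add_tmul, map_add]) fun a s q => by
      show P.symm ((a • s) ⊗ₜ cls j y q) = P.symm (s ⊗ₜ cls j y (a • q))
      rw [cls_smul, ← TensorProduct.smul_tmul]
      congr 2
  -- the first map on the generators
  have hval : ∀ q : K j y, stalkLin z ψ₁ (P.symm ((1 : B) ⊗ₜ cls j y q)) = κ q := by
    intro q
    obtain ⟨U, hU, q₀, hq₀⟩ := OX.germ_exists _ ((idealStalkEquiv j y).symm q)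
    have hq : Y'.presheaf.germ U (j y) hU (val j.ker U q₀) = (q : Q) := by
      rw [← vLin_germ j y U hU q₀, hq₀]
      exact congrArg Subtype.val ((idealStalkEquiv j y).apply_symm_apply q)
    obtain ⟨qv, hqv⟩ := q
    subst hq
    obtain ⟨s, h₂, hs, hs'⟩ := fst_app ψ₁ hψ₁ U q₀
    have hzU : z ∈ (i'' ≫ e) ⁻¹ᵁ (j ⁻¹ᵁ U) := hU
    have hiU : i' z ∈ m ⁻¹ᵁ U := show m (i' z) ∈ U from hp.symm ▸ hU
    have hP : P.symm ((1 : B) ⊗ₜ cls j y ⟨_, hqv⟩) =
        OX.germ (DCoh.toP.obj ((Scheme.Modules.pullback (i'' ≫ e)).obj (Omega.conormal j)))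
          ((i'' ≫ e) ⁻¹ᵁ (j ⁻¹ᵁ U)) hzU
          (OmegaSh.pullSect (i'' ≫ e) (Omega.conormal j) (j ⁻¹ᵁ U) (OmegaSh.conormalSect j U q₀)) := by
      rw [LinearEquiv.symm_apply_eq, cls_germ j y U hU q₀ hqv]
      exact (OX.pullStalkIso_germ (i'' ≫ e) z (Omega.conormal j) (j ⁻¹ᵁ U) hU (OmegaSh.conormalSect j U q₀)).symm
    rw [hP]
    refine (stalkLin_germ z ψ₁ ((i'' ≫ e) ⁻¹ᵁ (j ⁻¹ᵁ U)) hzU _).trans ?_
    refine (congrArg (OX.germ (DCoh.toP.obj (Omega.conormal i')) ((i'' ≫ e) ⁻¹ᵁ (j ⁻¹ᵁ U)) hzU) hs').trans ?_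
    refine (OX.germ_map (DCoh.toP.obj (Omega.conormal i')) (homOfLE h₂) hzU _).trans ?_
    have hsK : Z'.presheaf.germ (m ⁻¹ᵁ U) (i' z) hiU (val i'.ker _ s) ∈ K i' z :=
      H1Sheaf6.stalkMap_germ_val i' (m ⁻¹ᵁ U) s z hiU
    refine (cls_germ i' z (m ⁻¹ᵁ U) hiU s hsK).symm.trans (congrArg _ (Subtype.ext ?_))
    exact (congrArg (Z'.presheaf.germ (m ⁻¹ᵁ U) (i' z) hiU) hs).trans (hμg U hU _).symm
  have hΦ : ∀ w, stalkLin z ψ₁ (Ξ w) = Φ w := by
    intro w
    induction w using TensorProduct.induction_on with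
    | zero => rw [map_zero, map_zero, map_zero]
    | add v w hv hw => rw [map_add, map_add, map_add, hv, hw]
    | tmul s q =>
      show stalkLin z ψ₁ (P.symm (s ⊗ₜ cls j y q)) = s • κ q
      rw [show s ⊗ₜ[Y.presheaf.stalk y] cls j y q = s • ((1 : B) ⊗ₜ[Y.presheaf.stalk y] cls j y q) by
        rw [TensorProduct.smul_tmul', smul_eq_mul, mul_one], map_smul, map_smul, hval]
  have hΞ : Function.Surjective Ξ := by
    intro x
    obtain ⟨t, rfl⟩ := P.symm.surjective x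
    induction t using TensorProduct.induction_on with
    | zero => exact ⟨0, by rw [map_zero, map_zero]⟩
    | tmul s x =>
      obtain ⟨q, rfl⟩ := cls_surjective j y x
      exact ⟨s ⊗ₜ q, rfl⟩
    | add v w hv hw =>
      obtain ⟨v', hv'⟩ := hv
      obtain ⟨w', hw'⟩ := hw
      exact ⟨v' + w', by rw [map_add, map_add, hv', hw']⟩
  -- the test thickening
  have hJsq : K j y * K j y = ⊥ := by
    rw [← pow_two]; exact ker_stalkMap_sq huY.1 y
  let I := Ideal.span (Set.range D.h)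
  have hIf : I ≤ RingHom.ker D.f.toRingHom := Ideal.span_le.2 fun x ⟨k, hk⟩ => hk ▸ D.mem k
  let E : CommRingCat.{u} := CommRingCat.of (D.S ⧸ I)
  let π : E ⟶ B := CommRingCat.ofHom (Ideal.Quotient.lift I D.f.toRingHom hIf)
  let alg : Q ⟶ E := CommRingCat.ofHom ((Ideal.Quotient.mk I).comp (algebraMap Q D.S))
  have hπ : Function.Surjective π.hom := fun x => by
    obtain ⟨s, hs⟩ := D.surj x
    exact ⟨Ideal.Quotient.mk I s, hs⟩
  haveI : Nontrivial (D.S ⧸ I) := π.hom.domain_nontrivial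
  haveI : IsLocalRing E := IsLocalRing.of_surjective' (Ideal.Quotient.mk I) Ideal.Quotient.mk_surjective
  have hπalg : alg ≫ π = j.stalkMap y ≫ (i'' ≫ e).stalkMap z :=
    CommRingCat.hom_ext (RingHom.ext fun q => D.f.commutes q)
  have hkπ : RingHom.ker π.hom ≤ (K j y).map alg.hom := by
    intro x hx
    obtain ⟨s, rfl⟩ := Ideal.Quotient.mk_surjective x
    obtain ⟨u, hu, v, hv, rfl⟩ := Submodule.mem_sup.1 (D.ker (show s ∈ RingHom.ker D.f.toRingHom from hx))
    rw [map_add, Ideal.Quotient.eq_zero_iff_mem.2 hu, zero_add]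
    show Ideal.Quotient.mk I v ∈ (K j y).map ((Ideal.Quotient.mk I).comp (algebraMap Q D.S))
    rw [← Ideal.map_map]
    exact Ideal.mem_map_of_mem _ hv
  have hk : RingHom.ker π.hom ^ 2 = ⊥ := by
    rw [pow_two, eq_bot_iff]
    refine (Ideal.mul_mono hkπ hkπ).trans ?_
    rw [← Ideal.map_mul, hJsq, Ideal.map_bot]
  have hfot : MoreMor.IsFirstOrderThickening (Spec.map π) := GrothLib.UnivThick.fot_spec π hπ hk
  have hv : Spec.map π ≫ Spec.map alg ≫ Y'.fromSpecStalk (j y) = Z.fromSpecStalk z ≫ (i'' ≫ e) ≫ j := by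
    rw [← Spec.map_comp_assoc, hπalg, Spec.map_comp_assoc, Scheme.SpecMap_stalkMap_fromSpecStalk,
      Scheme.SpecMap_stalkMap_fromSpecStalk_assoc]
  obtain ⟨a, ⟨ha₁, ha₂⟩, -⟩ := hu'.2.2 _ _ (Spec.map π) ((Spec.map alg ≫ Y'.fromSpecStalk (j y)) ≫ d)
    (Z.fromSpecStalk z) hfot (by
      rw [← Category.assoc, hv, ← huY.2.1]
      simp only [Category.assoc])
  have ham : a ≫ m = Spec.map alg ≫ Y'.fromSpecStalk (j y) := by
    obtain ⟨v', -, hvu⟩ := huY.2.2 _ _ (Spec.map π) ((Spec.map alg ≫ Y'.fromSpecStalk (j y)) ≫ d)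
      (Z.fromSpecStalk z ≫ i'' ≫ e) hfot (by
        rw [← Category.assoc, hv, ← huY.2.1]
        simp only [Category.assoc])
    refine (hvu _ ⟨?_, ?_⟩).trans (hvu _ ⟨?_, rfl⟩).symm
    · rw [reassoc_of% ha₁, hnm]
      simp only [Category.assoc]
    · rw [Category.assoc, hmd, ha₂]
    · rw [hv]
      simp only [Category.assoc]
  have hcl : a (IsLocalRing.closedPoint E) = i' z := by
    haveI : IsLocalHom π.hom := IsLocalHom.of_surjective _ hπ
    have h₁ : (Spec.map π) (IsLocalRing.closedPoint B) = IsLocalRing.closedPoint E :=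
      IsLocalRing.comap_closedPoint π.hom
    have h₂ := congr($ha₁ (IsLocalRing.closedPoint B))
    exact (congrArg a h₁.symm).trans (h₂.trans (congrArg i' Scheme.fromSpecStalk_closedPoint))
  have key : ∀ p : Z', a (IsLocalRing.closedPoint E) = p →
      ∃ γ : Z'.presheaf.stalk p ⟶ E, Spec.map γ ≫ Z'.fromSpecStalk p = a := by
    rintro _ rfl
    exact ⟨_, Scheme.Spec_stalkClosedPointTo_fromSpecStalk a⟩
  obtain ⟨γ, hγ⟩ := key _ hcl
  have hγπ : γ ≫ π = i'.stalkMap z := Spec.map_injective (by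
    rw [← cancel_mono (Z'.fromSpecStalk (i' z)), Spec.map_comp_assoc, hγ, Scheme.SpecMap_stalkMap_fromSpecStalk]
    exact ha₁)
  have hγμ : μ ≫ γ = alg := Spec.map_injective (by
    rw [← cancel_mono (Y'.fromSpecStalk (j y)), Spec.map_comp_assoc, hμ, reassoc_of% hγ]
    exact ham)
  have hlift : ∀ W : D.S ⊗[Q] ↥(K j y), ∃ k : K i' z,
      cls i' z k = Φ (LinearMap.rTensor (K j y) D.f.toLinearMap W) ∧
      γ.hom (k : Z'.presheaf.stalk (i' z)) = Ideal.Quotient.mk I (D.mul W) := by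
    intro W
    induction W using TensorProduct.induction_on with
    | zero => exact ⟨0, by simp only [map_zero], by simp only [map_zero, ZeroMemClass.coe_zero]⟩
    | add v w hv hw =>
      obtain ⟨k, hk₁, hk₂⟩ := hv
      obtain ⟨k', hk₁', hk₂'⟩ := hw
      exact ⟨k + k', by simp only [map_add, hk₁, hk₁'], by simp only [Submodule.coe_add, map_add, hk₂, hk₂']⟩
    | tmul s q =>
      obtain ⟨r, hr⟩ := i'.stalkMap_surjective z (D.f s)
      refine ⟨r • (⟨μ.hom (q : Q), hKmem q⟩ : K i' z), ?_, ?_⟩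
      · rw [cls_smul]
        exact congrArg (· • κ q) hr
      · show γ.hom (r * μ.hom (q : Q)) = _
        rw [map_mul, show γ.hom (μ.hom (q : Q)) = alg.hom (q : Q) from congr($(hγμ).hom (q : Q)), D.mul_tmul,
          Algebra.smul_def, map_mul]
        have h₁ : γ.hom r - Ideal.Quotient.mk I s ∈ RingHom.ker π.hom := by
          rw [RingHom.mem_ker, map_sub, show π.hom (γ.hom r) = D.f s from (congr($(hγπ).hom r)).trans hr]
          exact sub_self _
        have h₂ : alg.hom (q : Q) ∈ RingHom.ker π.hom := by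
          rw [RingHom.mem_ker, show π.hom (alg.hom (q : Q)) = algebraMap Q B (q : Q) from D.f.commutes _]
          show ((i'' ≫ e).stalkMap z).hom ((j.stalkMap y).hom (q : Q)) = 0
          rw [show (j.stalkMap y).hom (q : Q) = 0 from q.2, map_zero]
        have h₃ := Ideal.mul_mem_mul h₁ h₂
        rw [← pow_two, hk, Ideal.mem_bot] at h₃
        linear_combination h₃
  have hΦinj : ∀ w, Φ w = 0 → w = 0 := by
    intro w hw
    obtain ⟨W, rfl⟩ := LinearMap.rTensor_surjective (K j y) (g := D.f.toLinearMap) D.surj w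
    obtain ⟨k, hk₁, hk₂⟩ := hlift W
    rw [hw] at hk₁
    have hk0 : (k : Z'.presheaf.stalk (i' z)) = 0 := by
      have h := (cls_eq_zero_iff i' z k).1 hk₁
      rw [show K i' z ^ 2 = ⊥ from ker_stalkMap_sq hu'.1 z, Ideal.mem_bot] at h
      exact h
    rw [hk0, map_zero] at hk₂
    exact D.rTensor_eq_zero_of_mul_mem W (Ideal.Quotient.eq_zero_iff_mem.1 hk₂.symm)
  refine (injective_iff_map_eq_zero _).2 fun x hx => ?_
  obtain ⟨w, rfl⟩ := hΞ x
  rw [hΦ] at hx
  rw [hΦinj w hx, map_zero]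

end GrothLib.ThickOmega4
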