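import Groth.Agent.Lib.NLAmp.Main
import Groth.Prelude.Def_Omega3
import Mathlib.RingTheory.Smooth.Kaehler

/-!
# The kernel of the universal thickening of an unramified complete intersection algebra
-/

set_option autoImplicit false
set_option linter.style.haveILetI false
set_option maxHeartbeats 1000000
set_option backward.isDefEq.respectTransparency false
universe u

namespace GrothLib.ThickOmega4

open MvPolynomial

variable {A B : Type u} [CommRing A] [CommRing B] [Algebra A B]

/-- Equations with Jacobian matrix the identity. -/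
theorem exists_unit_jacobian [Algebra.FormallyUnramified A B] {n : ℕ}
    (α : MvPolynomial (Fin n) A →ₐ[A] B) (hα : Function.Surjective α) :
    ∃ g : Fin n → MvPolynomial (Fin n) A, (∀ j, α (g j) = 0) ∧
      ∀ i j, α (pderiv i (g j)) = if i = j then 1 else 0 := by
  classical
  let G := Algebra.Generators.ofAlgHom α hα
  let E := G.toExtension
  have hsurj : Function.Surjective E.cotangentComplex := fun w =>
    (E.exact_cotangentComplex_toKaehler w).1 (Subsingleton.elim _ _)
  choose c hc using fun j => hsurj (G.cotangentSpaceBasis j)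
  choose k hk using fun j => Algebra.Extension.Cotangent.mk_surjective (c j)
  have he : ∀ p : MvPolynomial (Fin n) A, MvPolynomial.aeval G.val p = α p := fun p => by
    rw [show MvPolynomial.aeval G.val = α by ext; simp [G, Algebra.Generators.ofAlgHom]]
  refine ⟨fun j => (k j).1, fun j => ?_, fun i j => ?_⟩
  · rw [← he]
    exact (G.algebraMap_apply _).symm.trans (k j).2
  · have h := congrArg (fun w => G.cotangentSpaceBasis.repr w i) (hc j)
    simp only [← hk j, Algebra.Extension.cotangentComplex_mk, Algebra.Generators.cotangentSpaceBasis_repr_tmul,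
      Module.Basis.repr_self, Finsupp.single_apply] at h
    rw [← he, show (if i = j then (1 : B) else 0) = if j = i then 1 else 0 by simp [eq_comm]]
    exact ((G.cotangentSpaceBasis_repr_tmul 1 _ i).trans (one_mul _)).symm.trans h

/-- A lift of a surjection killing prescribed equations with Jacobian matrix the identity. -/
theorem exists_lift_killing {B' : Type u} [CommRing B'] [Algebra A B'] (π : B' →ₐ[A] B)
    (hs : Function.Surjective π) (hsq : RingHom.ker π.toRingHom ^ 2 = ⊥) {n : ℕ}
    (α : MvPolynomial (Fin n) A →ₐ[A] B) (g : Fin n → MvPolynomial (Fin n) A) (hg : ∀ j, α (g j) = 0)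
    (hJ : ∀ i j, α (pderiv i (g j)) = if i = j then 1 else 0) :
    ∃ β : MvPolynomial (Fin n) A →ₐ[A] B', (∀ p, π (β p) = α p) ∧ ∀ j, β (g j) = 0 := by
  classical
  choose b hb using fun i => hs (α (X i))
  let β₀ : MvPolynomial (Fin n) A →ₐ[A] B' := aeval b
  have h0 : ∀ p, π (β₀ p) = α p :=
    DFunLike.congr_fun (show π.comp β₀ = α from algHom_ext fun i => by simp [β₀, hb])
  have hmul : ∀ x y : B', π x = 0 → π y = 0 → x * y = 0 := fun x y hx hy => by
    rw [← Ideal.mem_bot, ← hsq, pow_two]
    exact Ideal.mul_mem_mul hx hy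
  let δ : Fin n → B' := fun i => - β₀ (g i)
  have hδ : ∀ i, π (δ i) = 0 := fun i => by simp [δ, h0, hg]
  let β : MvPolynomial (Fin n) A →ₐ[A] B' := aeval fun i => b i + δ i
  have h1 : ∀ p, π (β p) = α p :=
    DFunLike.congr_fun (show π.comp β = α from algHom_ext fun i => by simp [β, hb, hδ])
  have taylor : ∀ p, β p = β₀ p + ∑ i, β₀ (pderiv i p) * δ i := fun p => by
    induction p using MvPolynomial.induction_on with
    | C a => simp [β, β₀]
    | add p q hp hq => simp only [map_add, add_mul, Finset.sum_add_distrib, hp, hq]; ring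
    | mul_X p j hp =>
      have e : ∀ i, β₀ (pderiv i (p * X j)) * δ i =
          β₀ (pderiv i p) * δ i * b j + (if i = j then β₀ p * δ i else 0) := fun i => by
        rw [pderiv_mul, pderiv_X, map_add, map_mul, map_mul, Pi.single_apply]
        rcases eq_or_ne i j with rfl | h
        · simp [β₀]; ring
        · simp [β₀, h, Ne.symm h]; ring
      rw [map_mul, map_mul, hp, Finset.sum_congr rfl fun i _ => e i, Finset.sum_add_distrib,
        ← Finset.sum_mul, Finset.sum_ite_eq' _ j, if_pos (Finset.mem_univ j)]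
      have hz : (∑ i, β₀ (pderiv i p) * δ i) * δ j = 0 :=
        hmul _ _ (by simp [map_sum, hδ]) (hδ j)
      simp only [β, β₀, aeval_X] at hz ⊢
      linear_combination hz
  refine ⟨β, h1, fun j => ?_⟩
  rw [taylor, Finset.sum_eq_single j (fun i _ hi => ?_) (fun h => absurd (Finset.mem_univ j) h)]
  · have := hmul (β₀ (pderiv j (g j)) - 1) (δ j) (by simp [h0, hJ]) (hδ j)
    linear_combination this
  · exact hmul _ _ (by rw [h0, hJ, if_neg hi]) (hδ i)

/-- The kernel of a universal thickening is a retract of the conormal module of a presentation with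
equations having Jacobian matrix the identity. -/
theorem finite_projective_aux {P : Type u} [CommRing P] [Algebra A P] (α : P →ₐ[A] B) (hα : Function.Surjective α)
    {n : ℕ} (g : Fin n → P) (d : Fin n → Derivation A P P) (hg : ∀ j, α (g j) = 0)
    (hJ : ∀ i j, α (d i (g j)) = if i = j then 1 else 0) (hfg : (RingHom.ker α.toRingHom).FG)
    [Module.Projective (P ⧸ RingHom.ker α.toRingHom) (RingHom.ker α.toRingHom).Cotangent]
    {B' : Type u} [CommRing B'] [Algebra A B'] (π : B' →ₐ[A] B) (hπ : OmegaSh.IsUnivThickeningRing A B B' π)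
    (β : P →ₐ[A] B') (hβ : ∀ p, π (β p) = α p) (hβg : ∀ j, β (g j) = 0)
    {M : Type u} [AddCommGroup M] [Module B M] (c : RingHom.ker π.toRingHom →+ M) (hc : Function.Bijective c)
    (hcs : ∀ (b : B') (k : RingHom.ker π.toRingHom), c (b • k) = π b • c k) :
    Module.Finite B M ∧ Module.Projective B M := by
  classical
  obtain ⟨hs, hsq, huniv⟩ := hπ
  let I : Ideal P := RingHom.ker α.toRingHom
  let J : Ideal P := I ^ 2 ⊔ Ideal.span (Set.range g)
  have hJI : J ≤ I := sup_le (Ideal.pow_le_self two_ne_zero) (Ideal.span_le.2 (Set.range_subset_iff.2 hg))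
  let q : P →ₐ[A] P ⧸ J := Ideal.Quotient.mkₐ A J
  let I' : Ideal (P ⧸ J) := I.map (Ideal.Quotient.mk J)
  have hI' : I' ^ 2 = ⊥ := by
    rw [← Ideal.map_pow, eq_bot_iff, Ideal.map_le_iff_le_comap]
    exact fun x hx => (Ideal.Quotient.eq_zero_iff_mem.2 (le_sup_left (a := I ^ 2) hx) : Ideal.Quotient.mk J x = 0)
  let q' : P →ₐ[A] (P ⧸ J) ⧸ I' := (Ideal.Quotient.mkₐ A I').comp q
  have hq' : RingHom.ker α.toRingHom ≤ RingHom.ker q'.toRingHom := fun x hx =>
    Ideal.Quotient.eq_zero_iff_mem.2 (Ideal.mem_map_of_mem _ hx)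
  let a₀ : B →ₐ[A] (P ⧸ J) ⧸ I' := AlgHom.liftOfSurjective α hα q' hq'
  have ha₀ : ∀ p, a₀ (α p) = q' p := fun p => AlgHom.liftOfSurjective_apply α hα q' hq' p
  obtain ⟨γ, hγ, -⟩ := huniv (P ⧸ J) I' hI' a₀
  replace hγ : ∀ x, Ideal.Quotient.mk I' (γ x) = a₀ (π x) := DFunLike.congr_fun hγ
  choose L hL using fun x : B' => Ideal.Quotient.mk_surjective (γ x)
  have hLI : ∀ x, π x = α (L x) := fun x => by
    obtain ⟨p, hp⟩ := hα (π x)
    have h : Ideal.Quotient.mk I' (Ideal.Quotient.mk J (L x)) = Ideal.Quotient.mk I' (Ideal.Quotient.mk J p) := by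
      rw [hL, hγ, ← hp, ha₀]; rfl
    rw [Ideal.Quotient.eq, ← map_sub, ← Ideal.mem_comap,
      Ideal.comap_map_of_surjective _ Ideal.Quotient.mk_surjective, ← RingHom.ker_eq_comap_bot, Ideal.mk_ker,
      sup_eq_left.2 hJI] at h
    rw [← hp]
    exact (sub_eq_zero.1 (by rw [← map_sub]; exact h)).symm
  have hβJ : J ≤ RingHom.ker β.toRingHom := sup_le (fun x hx => by
    rw [pow_two] at hx
    refine Submodule.mul_induction_on hx (fun y hy z hz => ?_) fun y z hy hz => add_mem hy hz
    show β (y * z) = 0
    rw [map_mul, ← Ideal.mem_bot, ← hsq, pow_two]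
    exact Ideal.mul_mem_mul (show π (β y) = 0 by rw [hβ]; exact hy) (show π (β z) = 0 by rw [hβ]; exact hz))
    (Ideal.span_le.2 (Set.range_subset_iff.2 hβg))
  let βJ : (P ⧸ J) →ₐ[A] B' := Ideal.Quotient.liftₐ J β fun x hx => hβJ hx
  have hid : ∀ x, β (L x) = x := by
    obtain ⟨w, -, hw⟩ := huniv B' (RingHom.ker π.toRingHom) hsq
      ((Ideal.quotientKerAlgEquivOfSurjective (f := π) hs).symm.toAlgHom)
    have key : ∀ f : B' →ₐ[A] B', (∀ x, π (f x) = π x) → f = w := fun f hf => hw f (AlgHom.ext fun x => by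
      refine (Ideal.quotientKerAlgEquivOfSurjective (f := π) hs).injective ?_
      refine (hf x).trans ?_
      exact ((Ideal.quotientKerAlgEquivOfSurjective (f := π) hs).apply_symm_apply (π x)).symm)
    intro x
    have h := key (βJ.comp γ) fun y => by
      show π (βJ (γ y)) = π y
      rw [← hL, hLI y]; exact hβ _
    have e := DFunLike.congr_fun (h.trans (key (AlgHom.id A B') fun _ => rfl).symm) x
    rw [AlgHom.comp_apply, ← hL] at e
    exact e
  let αr : P →+* B := α.toRingHom
  letI : Module P M := Module.compHom M αr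
  letI : Module (P ⧸ I) M := Module.compHom M (RingHom.quotientKerEquivOfSurjective (f := αr) hα).toRingHom
  haveI : IsScalarTower P (P ⧸ I) M := .of_algebraMap_smul fun p m => rfl
  haveI : Module.Finite P I := Module.Finite.iff_fg.mpr hfg
  haveI : Module.Finite P I.Cotangent := .of_surjective I.toCotangent I.toCotangent_surjective
  haveI : Module.Finite (P ⧸ I) I.Cotangent := Module.Finite.of_restrictScalars_finite P _ _
  have hβI : ∀ k : I, π (β k) = 0 := fun k => by rw [hβ]; exact k.2
  let r₀ : I →ₗ[P] M :=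
    { toFun := fun k => c ⟨β k, hβI k⟩
      map_add' := fun k l => (congrArg c (Subtype.ext (map_add β (k : P) l))).trans (map_add c ⟨_, hβI k⟩ ⟨_, hβI l⟩)
      map_smul' := fun p k => by
        refine (congrArg c (Subtype.ext (map_mul β p (k : P)))).trans ((hcs (β p) ⟨_, hβI k⟩).trans ?_)
        rw [hβ]; rfl }
  have hr₀ : I • (⊤ : Submodule P I) ≤ LinearMap.ker r₀ := Submodule.smul_le.2 fun p hp k _ => by
    rw [LinearMap.mem_ker, map_smul]
    exact (congrArg (fun b : B => b • (r₀ k : M)) (show α p = 0 from hp)).trans (zero_smul B _)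
  let r : I.Cotangent →ₗ[P] M := Submodule.liftQ _ r₀ hr₀
  have hr : ∀ k : I, r (I.toCotangent k) = r₀ k := fun k => rfl
  let t : Fin n → I.Cotangent := fun j => I.toCotangent ⟨g j, hg j⟩
  let D : I → I.Cotangent := fun k => I.toCotangent k - ∑ j, d j (k : P) • t j
  have hker0 : ∀ (x : P) (v : I.Cotangent), x ∈ I → x • v = 0 := fun x v hx => by
    obtain ⟨w, rfl⟩ := I.toCotangent_surjective v
    rw [← map_smul, Ideal.toCotangent_eq_zero, pow_two]
    exact Ideal.mul_mem_mul hx w.2
  have Dadd : ∀ k l, D (k + l) = D k + D l := fun k l => by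
    simp only [D, map_add, Submodule.coe_add, add_smul, Finset.sum_add_distrib]; abel
  have Dsmul : ∀ (p : P) (k : I), D (p • k) = p • D k := fun p k => by
    simp only [D, map_smul, Submodule.coe_smul, smul_eq_mul, Derivation.leibniz, smul_eq_mul, add_smul, Finset.sum_add_distrib,
      smul_sub, Finset.smul_sum, mul_smul]
    rw [Finset.sum_eq_zero (f := fun j => (k : P) • d j p • t j) fun j _ => hker0 _ _ k.2, add_zero]
  let Dl : I →ₗ[P] I.Cotangent := { toFun := D, map_add' := Dadd, map_smul' := Dsmul }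
  have hD0 : ∀ (x : P) (hx : x ∈ J), Dl ⟨x, hJI hx⟩ = 0 := fun x hx => by
    suffices H : J ≤ Submodule.map I.subtype (LinearMap.ker Dl) by
      obtain ⟨k, hk, hkx⟩ := H hx
      rwa [show (⟨x, hJI hx⟩ : I) = k from Subtype.ext hkx.symm]
    refine sup_le ?_ (Submodule.span_le.2 (Set.range_subset_iff.2 fun j => ⟨⟨g j, hg j⟩, ?_, rfl⟩))
    · rw [pow_two]
      refine Submodule.smul_le.2 fun p hp y hy => ⟨p • ⟨y, hy⟩, ?_, rfl⟩
      rw [SetLike.mem_coe, LinearMap.mem_ker, map_smul, hker0 _ _ hp]
    · show Dl ⟨g j, hg j⟩ = 0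
      show t j - ∑ i, d i (g j) • t i = 0
      rw [sub_eq_zero, eq_comm, Finset.sum_eq_single j (fun i _ hi => hker0 _ _ ?_)
        fun h => absurd (Finset.mem_univ j) h]
      · rw [← sub_eq_zero]
        nth_rw 2 [← one_smul P (t j)]
        rw [← sub_smul]
        refine hker0 _ _ ?_
        show α (d j (g j) - 1) = 0
        rw [map_sub, hJ, if_pos rfl, map_one, sub_self]
      · show α (d i (g j)) = 0
        rw [hJ, if_neg hi]
  have hDeq : ∀ k l : I, Ideal.Quotient.mk J (k : P) = Ideal.Quotient.mk J (l : P) → Dl k = Dl l := fun k l h => by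
    rw [← sub_eq_zero, ← map_sub]
    exact hD0 _ (Ideal.Quotient.eq.1 h)
  let e := AddEquiv.ofBijective c hc
  have hsI : ∀ m, L (e.symm m : B') ∈ I := fun m => (hLI _).symm.trans (e.symm m).2
  let s : M →ₗ[P] I.Cotangent :=
    { toFun := fun m => Dl ⟨_, hsI m⟩
      map_add' := fun m m' => by
        rw [← map_add Dl]
        refine hDeq _ _ ?_
        show Ideal.Quotient.mk J (L _) = Ideal.Quotient.mk J (L _ + L _)
        rw [map_add (Ideal.Quotient.mk J), hL, hL, hL, map_add e.symm, Submodule.coe_add, map_add γ]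
      map_smul' := fun p m => by
        rw [RingHom.id_apply, ← map_smul Dl]
        refine hDeq _ _ ?_
        have h' : e.symm (p • m) = β p • e.symm m := e.injective (by
          rw [e.apply_symm_apply]
          show α p • m = c (β p • e.symm m)
          rw [hcs, hβ]
          exact congrArg _ (e.apply_symm_apply m).symm)
        have hγβ : γ (β p) * γ (e.symm m : B') = Ideal.Quotient.mk J p * γ (e.symm m : B') := by
          rw [← sub_eq_zero, ← sub_mul, ← Ideal.mem_bot, ← hI', pow_two]
          refine Ideal.mul_mem_mul (Ideal.Quotient.eq.1 ?_) (Ideal.Quotient.eq_zero_iff_mem.1 ?_)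
          · rw [hγ, hβ, ha₀]; rfl
          · rw [hγ, show π (e.symm m : B') = 0 from (e.symm m).2, map_zero]
        show Ideal.Quotient.mk J (L _) = Ideal.Quotient.mk J (p * L _)
        rw [map_mul, hL, hL, ← hγβ, ← map_mul γ]
        exact congrArg γ (congrArg Subtype.val h') }
  have hrs : ∀ m, r (s m) = m := fun m => by
    show r (I.toCotangent ⟨_, hsI m⟩ - ∑ j, d j (L (e.symm m : B')) • t j) = m
    have ht : ∀ j, r (t j) = 0 := fun j => by
      show r₀ ⟨g j, hg j⟩ = 0
      exact (congrArg c (Subtype.ext (hβg j))).trans (map_zero c)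
    simp only [map_sub, map_sum, map_smul, ht, smul_zero, Finset.sum_const_zero, sub_zero, hr]
    exact (congrArg c (Subtype.ext (hid _))).trans (e.apply_symm_apply m)
  have hsur : Function.Surjective (algebraMap P (P ⧸ I)) := Ideal.Quotient.mk_surjective
  let r' := r.extendScalarsOfSurjective hsur
  let s' := s.extendScalarsOfSurjective hsur
  haveI : Module.Finite (P ⧸ I) M := .of_surjective r' fun m => ⟨s m, hrs m⟩
  haveI : Module.Projective (P ⧸ I) M := .of_split s' r' (LinearMap.ext hrs)
  let ε := RingHom.quotientKerEquivOfSurjective (f := αr) hα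
  refine ⟨?_, NLAmp.projective_of_semilinear ε (AddEquiv.refl M) fun _ _ => rfl⟩
  obtain ⟨S, hS⟩ := (inferInstance : Module.Finite (P ⧸ I) M).fg_top
  refine ⟨⟨S, eq_top_iff.2 fun m hm' => ?_⟩⟩
  clear hm'
  have hm : m ∈ Submodule.span (P ⧸ I) (S : Set M) := hS ▸ Submodule.mem_top
  induction hm using Submodule.span_induction with
  | mem x hx => exact Submodule.subset_span hx
  | zero => exact zero_mem _
  | add x y _ _ hx hy => exact add_mem hx hy
  | smul a x _ hx => exact Submodule.smul_mem _ (ε a) hx

/-- For an unramified complete intersection algebra the kernel of a universal first order thickening is a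
finite projective module. -/
theorem finite_projective_of_univ [Algebra.FormallyUnramified A B] (hB : LCI.IsLCI A B) {B' : Type u}
    [CommRing B'] [Algebra A B'] (π : B' →ₐ[A] B) (hπ : OmegaSh.IsUnivThickeningRing A B B' π)
    {M : Type u} [AddCommGroup M] [Module B M] (c : RingHom.ker π.toRingHom →+ M) (hc : Function.Bijective c)
    (hcs : ∀ (b : B') (k : RingHom.ker π.toRingHom), c (b • k) = π b • c k) :
    Module.Finite B M ∧ Module.Projective B M := by
  classical
  obtain ⟨-, n, α, hα, hI⟩ := hB
  obtain ⟨g, hg, hJ⟩ := exists_unit_jacobian α hα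
  obtain ⟨β, hβ, hβg⟩ := exists_lift_killing π hπ.1 hπ.2.1 α g hg hJ
  haveI := NLAmp.projective_cotangent_of_koszul _ hI
  exact finite_projective_aux α hα g (fun i => MvPolynomial.pderiv i) hg hJ
    (LCI6.fg_of_isKoszulRegularIdeal hI) π hπ β hβ hβg c hc hcs

end GrothLib.ThickOmega4
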