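import Groth.Agent.Lib.ThickOmega4.LciThickAlg
import Groth.Agent.Lib.UnivThick.Affine
import Groth.Agent.Lib.RegImm12.ConormalSeq
import Groth.Agent.Lib.LocFree8.Basic
import Groth.Agent.Lib.LCI6.Koszul
import Groth.Agent.Lib.ConStalk4.Split
import Mathlib.AlgebraicGeometry.Morphisms.FormallyUnramified
import Mathlib.RingTheory.Flat.Basic

/-!
# The conormal sheaf of the universal thickening of an unramified complete intersection morphism
-/

set_option autoImplicit false
set_option linter.style.haveILetI false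
set_option maxHeartbeats 1000000
set_option backward.isDefEq.respectTransparency false
universe u

open CategoryTheory AlgebraicGeometry Opposite TopologicalSpace
open scoped TensorProduct

noncomputable section

namespace GrothLib.ThickOmega4

open GrothLib.IdealModSec (val)

variable {X Y X' : Scheme.{u}} {f : X ⟶ Y} {i : X ⟶ X'} {h' : X' ⟶ Y}

/-- On affines a universal thickening is a universal thickening of rings. -/
theorem isUnivThickeningRing_appLE (hu : OmegaSh.IsUnivThickening f i h') {U' : X'.Opens} {V : Y.Opens}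
    (hU' : IsAffineOpen U') (hV : IsAffineOpen V) (e' : U' ≤ h' ⁻¹ᵁ V) (e : i ⁻¹ᵁ U' ≤ f ⁻¹ᵁ V) :
    letI := (f.appLE V (i ⁻¹ᵁ U') e).hom.toAlgebra
    letI := (h'.appLE V U' e').hom.toAlgebra
    ∃ π : Γ(X', U') →ₐ[Γ(Y, V)] Γ(X, i ⁻¹ᵁ U'), π.toRingHom = (i.app U').hom ∧
      OmegaSh.IsUnivThickeningRing Γ(Y, V) Γ(X, i ⁻¹ᵁ U') Γ(X', U') π := by
  letI := (f.appLE V (i ⁻¹ᵁ U') e).hom.toAlgebra
  letI := (h'.appLE V U' e').hom.toAlgebra
  obtain ⟨hf0, rfl, huniv⟩ := hu
  haveI : IsClosedImmersion i := hf0.1.1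
  haveI : Surjective i := hf0.1.2
  have hU : IsAffineOpen (i ⁻¹ᵁ U') := hU'.preimage i
  have hcomp : h'.appLE V U' e' ≫ i.app U' = (i ≫ h').appLE V (i ⁻¹ᵁ U') e := by
    rw [Scheme.Hom.app_eq_appLE]; exact Scheme.Hom.appLE_comp_appLE i h' V U' (i ⁻¹ᵁ U') e' le_rfl
  refine ⟨⟨(i.app U').hom, fun a => congr($(hcomp).hom a)⟩, rfl, i.app_surjective U' hU', ?_, ?_⟩
  · have hk := congrArg (fun J : X'.IdealSheafData => J.ideal ⟨U', hU'⟩) hf0.2
    rw [pow_two]
    show RingHom.ker (i.app U').hom * RingHom.ker (i.app U').hom = ⊥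
    rw [← Scheme.Hom.ker_apply i ⟨U', hU'⟩]
    simpa [-Scheme.Hom.ker_apply] using hk
  intro C _ _ J hJ a
  let j : Spec (CommRingCat.of (C ⧸ J)) ⟶ Spec (CommRingCat.of C) :=
    Spec.map (CommRingCat.ofHom (Ideal.Quotient.mk J))
  have hj : MoreMor.IsFirstOrderThickening j := UnivThick.fot_spec _ Ideal.Quotient.mk_surjective (by
    show RingHom.ker (Ideal.Quotient.mk J) ^ 2 = ⊥
    rw [Ideal.mk_ker]; exact hJ)
  haveI : Surjective j := hj.1.2
  let b : Spec (CommRingCat.of C) ⟶ Y := Spec.map (CommRingCat.ofHom (algebraMap Γ(Y, V) C)) ≫ hV.fromSpec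
  let t : Spec (CommRingCat.of (C ⧸ J)) ⟶ X := Spec.map (CommRingCat.ofHom a.toRingHom) ≫ hU.fromSpec
  have hspi : Spec.map (i.app U') ≫ hU'.fromSpec = hU.fromSpec ≫ i := by
    rw [Scheme.Hom.app_eq_appLE]; exact IsAffineOpen.SpecMap_appLE_fromSpec i hU' hU le_rfl
  have hspf := IsAffineOpen.SpecMap_appLE_fromSpec (i ≫ h') hV hU e
  have hspg := IsAffineOpen.SpecMap_appLE_fromSpec h' hV hU' e'
  have w : j ≫ b = t ≫ i ≫ h' := by
    simp only [j, b, t, Category.assoc]
    rw [← hspf, ← Spec.map_comp_assoc, ← Spec.map_comp_assoc]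
    congr 2
    exact CommRingCat.hom_ext (RingHom.ext fun v => (a.commutes v).symm)
  obtain ⟨l, ⟨hl, hlb⟩, hlu⟩ := huniv _ _ j b t hj w
  have hr : Set.range l ⊆ Set.range hU'.fromSpec := by
    rintro _ ⟨q, rfl⟩
    obtain ⟨q, rfl⟩ := j.surjective q
    rw [IsAffineOpen.range_fromSpec, ← Scheme.Hom.comp_apply, hl]
    have : t q ∈ i ⁻¹ᵁ U' := by
      rw [← SetLike.mem_coe, ← hU.range_fromSpec]
      exact ⟨_, rfl⟩
    exact this
  obtain ⟨φ, hφ⟩ := Spec.map_surjective (IsOpenImmersion.lift hU'.fromSpec l hr)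
  have hφl : Spec.map φ ≫ hU'.fromSpec = l := by rw [hφ, IsOpenImmersion.lift_fac]
  have hφA : h'.appLE V U' e' ≫ φ = CommRingCat.ofHom (algebraMap Γ(Y, V) C) := by
    apply Spec.map_injective
    rw [← cancel_mono hV.fromSpec, Spec.map_comp, Category.assoc, hspg, reassoc_of% hφl]
    exact hlb
  refine ⟨⟨φ.hom, fun v => congr($(hφA).hom v)⟩, ?_, fun ψ hψ => ?_⟩
  · have h : φ ≫ CommRingCat.ofHom (Ideal.Quotient.mk J) = i.app U' ≫ CommRingCat.ofHom a.toRingHom := by
      apply Spec.map_injective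
      rw [← cancel_mono hU'.fromSpec, Spec.map_comp, Spec.map_comp, Category.assoc, Category.assoc, hφl, hspi]
      exact hl.trans (Category.assoc _ _ _)
    exact AlgHom.ext fun v => congr($(h).hom v)
  · have h1 : Spec.map (CommRingCat.ofHom ψ.toRingHom) ≫ hU'.fromSpec = l := hlu _ ⟨?_, ?_⟩
    · have h2 : CommRingCat.ofHom ψ.toRingHom = φ :=
        Spec.map_injective ((cancel_mono hU'.fromSpec).1 (h1.trans hφl.symm))
      exact AlgHom.ext fun v => congr($(h2).hom v)
    · show j ≫ _ = (Spec.map _ ≫ hU.fromSpec) ≫ i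
      rw [Category.assoc, ← hspi, ← Spec.map_comp_assoc, ← Spec.map_comp_assoc]
      congr 2
      exact CommRingCat.hom_ext (RingHom.ext fun v => DFunLike.congr_fun hψ v)
    · rw [Category.assoc, ← hspg, ← Spec.map_comp_assoc]
      congr 2
      exact CommRingCat.hom_ext (RingHom.ext ψ.commutes)

/-- The conormal sheaf of the universal thickening of an unramified complete intersection morphism is
finite locally free. -/
theorem isFinLocFree_conormal_univ (hf : ∀ x, Synt.IsKoszulAt f x) [FormallyUnramified f]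
    (hu : OmegaSh.IsUnivThickening f i h') : FlatMod.IsFinLocFree (Omega.conormal i) := by
  classical
  haveI : IsClosedImmersion i := hu.1.1.1
  haveI := H1Sheaf6.isQuasicoherent_idealMod i.ker
  haveI : (Omega.conormal i).IsQuasicoherent := FittSheaf.isQuasicoherent_pullback i _
  have key : ∀ x : X, ∃ U : X.Opens, IsAffineOpen U ∧ x ∈ U ∧
      Module.Finite Γ(X, U) Γ(Omega.conormal i, U) ∧ Module.Projective Γ(X, U) Γ(Omega.conormal i, U) := by
    intro x
    obtain ⟨V, hV, hxV, -⟩ := exists_isAffineOpen_mem_and_subset (x := f x) (U := (⊤ : Y.Opens)) trivial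
    have hxV' : i x ∈ h' ⁻¹ᵁ V := by
      show h' (i x) ∈ V
      rw [← Scheme.Hom.comp_apply, hu.2.1]; exact hxV
    obtain ⟨U', hU', hxU', hU'V⟩ := exists_isAffineOpen_mem_and_subset hxV'
    have hUV : i ⁻¹ᵁ U' ≤ f ⁻¹ᵁ V := fun y hy => by
      show f y ∈ V
      rw [← hu.2.1, Scheme.Hom.comp_apply]; exact hU'V hy
    have hU : IsAffineOpen (i ⁻¹ᵁ U') := hU'.preimage i
    letI := (f.appLE V (i ⁻¹ᵁ U') hUV).hom.toAlgebra
    letI := (h'.appLE V U' hU'V).hom.toAlgebra
    obtain ⟨π, hπ, hring⟩ := isUnivThickeningRing_appLE hu hU' hV hU'V hUV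
    haveI : Algebra.FormallyUnramified Γ(Y, V) Γ(X, i ⁻¹ᵁ U') := f.formallyUnramified_appLE hV hU hUV
    have hlci : LCI.IsLCI Γ(Y, V) Γ(X, i ⁻¹ᵁ U') := LCI6.isLCI_of_forall_inLocus f
      ((LCI6.inLocus_iff_of_isKoszul f).1 hf) (i ⁻¹ᵁ U') V hU hV hUV
    have hπ' : ∀ b, π b = i.app U' b := fun b => congr($hπ b)
    have hex : ∀ k : RingHom.ker π.toRingHom, ∃ m : Γ(ClSub.idealMod i.ker, U'), val i.ker U' m = (k : Γ(X', U')) :=
      fun k => ConStalk4.exists_val_of_app_eq_zero i U' _ ((hπ' _).symm.trans k.2)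
    choose v hv using hex
    let c : RingHom.ker π.toRingHom →+ Γ(Omega.conormal i, i ⁻¹ᵁ U') :=
      AddMonoidHom.mk' (fun k => OmegaSh.conormalSect i U' (v k)) fun k l => by
        rw [← map_add]
        exact congrArg _ (IdealModSec.val_injective _ _ ((hv _).trans ((congrArg₂ (· + ·) (hv k) (hv l)).symm.trans
          (map_add _ (v k) (v l)).symm)))
    have hsq : RingHom.ker (i.app U').hom ^ 2 = ⊥ := by rw [← hπ]; exact hring.2.1
    have hc : Function.Bijective c := by
      refine ⟨(injective_iff_map_eq_zero c).2 fun k hk => Subtype.ext ?_, fun z => ?_⟩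
      · have h := (RegImm12.conormalSect_eq_zero_iff i hU' hU (i.app_surjective U' hU') (v k)).1 hk
        rw [hsq, Ideal.mem_bot, hv] at h
        exact h
      · obtain ⟨m, hm⟩ := (RegImm12.pullSect_surjective_and_ker i hU' hU (i.app_surjective U' hU')
          (ClSub.idealMod i.ker)).1 z
        refine ⟨⟨val i.ker U' m, (hπ' _).trans (H1Sheaf6.app_val_eq_zero i U' m)⟩, ?_⟩
        refine Eq.trans ?_ ((ConcreteCategory.congr_hom (OmegaSh.conormalSect_eq i U') m).trans hm)
        exact congrArg (OmegaSh.conormalSect i U') (IdealModSec.val_injective _ _ (hv _))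
    have hcs : ∀ (b : Γ(X', U')) (k : RingHom.ker π.toRingHom), c (b • k) = π b • c k := fun b k => by
      rw [hπ' b]
      refine Eq.trans (congrArg (OmegaSh.conormalSect i U') (IdealModSec.val_injective _ _ ?_))
        (ConStalk4.conormalSect_smul_mem (i := i) U' b (v k))
      rw [hv, IdealModSec.val_smul, hv]; rfl
    exact ⟨_, hU, hxU', finite_projective_of_univ hlci π hring c hc hcs⟩
  choose U hU hxU hfin hproj using key
  refine LocFree8.isFinLocFree_iff_fp_free _ |>.2 ⟨FlatFP.isFP_of_sections _ U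
    (top_le_iff.mp fun x _ => Opens.mem_iSup.mpr ⟨x, hxU x⟩) hU fun x => ?_, fun x => ?_⟩
  · haveI := hfin x
    haveI := hproj x
    exact Module.finitePresentation_of_projective _ _
  · haveI := hfin x
    haveI := hproj x
    let M := Omega.conormal i
    letI := X.presheaf.algebra_section_stalk ⟨x, hxU x⟩
    haveI := FlatFP.isLocalization_stalk_primeAt (hU x) (hxU x)
    letI : Module Γ(X, U x) (M.presheaf.stalk x) := Module.compHom _ (X.presheaf.germ (U x) x (hxU x)).hom
    haveI : IsScalarTower Γ(X, U x) (X.presheaf.stalk x) (M.presheaf.stalk x) :=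
      IsScalarTower.of_algebraMap_smul fun _ _ => rfl
    obtain ⟨g, hg, -⟩ := FlatFP.isLocalizedModule_germ M (hU x) (hxU x)
    let e := (IsLocalizedModule.isBaseChange (WeakAss.primeAt x (hxU x)).primeCompl (X.presheaf.stalk x) g).equiv
    haveI : Module.Finite (X.presheaf.stalk x) (M.presheaf.stalk x) := Module.Finite.equiv e
    haveI : Module.Projective (X.presheaf.stalk x) (M.presheaf.stalk x) := Module.Projective.of_equiv e
    exact Module.free_of_flat_of_isLocalRing

end GrothLib.ThickOmega4
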