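import Groth.Prelude.Def_Omega3
import Groth.Agent.Lib.UnivThick.FOT
import Groth.Agent.Lib.UnivThick.Affine
import Mathlib.Algebra.TrivSqZeroExt.Basic
import Mathlib.AlgebraicGeometry.Stalk

/-!
# Derivations on the local rings of a universal first order thickening
-/

set_option autoImplicit false
universe u

open AlgebraicGeometry CategoryTheory

namespace GrothLib.ThickOmega4

/-- A ring hom into a trivial square zero extension from a derivation along a ring hom. -/
def sqZeroHom {A B M : Type u} [CommRing A] [CommRing B] [AddCommGroup M] [Module B M] [Module Bᵐᵒᵖ M]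
    [IsCentralScalar B M] (φ : A →+* B) (D : A →+ M)
    (hD : ∀ a b, D (a * b) = φ a • D b + φ b • D a) : A →+* TrivSqZeroExt B M where
  toFun a := (φ a, D a)
  map_one' := TrivSqZeroExt.ext (map_one φ) (by
    have := hD 1 1
    rw [one_mul, map_one φ, one_smul] at this
    show D 1 = 0
    exact left_eq_add.mp this)
  map_mul' a b := TrivSqZeroExt.ext (map_mul φ a b) (by
    show D (a * b) = φ a • D b + MulOpposite.op (φ b) • D a
    rw [op_smul_eq_smul, hD])
  map_zero' := TrivSqZeroExt.ext (map_zero φ) (map_zero D)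
  map_add' a b := TrivSqZeroExt.ext (map_add φ a b) (map_add D a b)

variable {Z Z' X : Scheme.{u}}

/-- Maps from the local ring of the thickening to local square zero extensions exist uniquely. -/
theorem existsUnique_stalk_lift (i : Z ⟶ Z') (h' : Z' ⟶ X)
    (hu : OmegaSh.IsUnivThickening (i ≫ h') i h') (z : Z)
    {C : CommRingCat.{u}} [IsLocalRing C] (π : C ⟶ Z.presheaf.stalk z)
    (hπ : Function.Surjective π.hom) (hk : RingHom.ker π.hom ^ 2 = ⊥)
    (β : X.presheaf.stalk (h' (i z)) ⟶ C)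
    (hβ : β ≫ π = h'.stalkMap (i z) ≫ i.stalkMap z) :
    ∃! γ : Z'.presheaf.stalk (i z) ⟶ C, γ ≫ π = i.stalkMap z ∧ h'.stalkMap (i z) ≫ γ = β := by
  have hj : MoreMor.IsFirstOrderThickening (Spec.map π) := GrothLib.UnivThick.fot_spec π hπ hk
  obtain ⟨a', ⟨ha₁, ha₂⟩, hau⟩ := hu.2.2 (Spec (Z.presheaf.stalk z)) (Spec C) (Spec.map π)
    (Spec.map β ≫ X.fromSpecStalk (h' (i z))) (Z.fromSpecStalk z) hj (by
      rw [← Spec.map_comp_assoc, hβ, Spec.map_comp_assoc, Scheme.SpecMap_stalkMap_fromSpecStalk,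
        Scheme.SpecMap_stalkMap_fromSpecStalk_assoc])
  have hiz : Spec.map (i.stalkMap z) ≫ Z'.fromSpecStalk (i z) = Z.fromSpecStalk z ≫ i :=
    Scheme.SpecMap_stalkMap_fromSpecStalk i
  have hcl : a' (IsLocalRing.closedPoint C) = i z := by
    haveI : IsLocalHom π.hom := IsLocalHom.of_surjective _ hπ
    have h₁ : (Spec.map π) (IsLocalRing.closedPoint (Z.presheaf.stalk z)) = IsLocalRing.closedPoint C :=
      IsLocalRing.comap_closedPoint π.hom
    have h₂ := congr($ha₁ (IsLocalRing.closedPoint (Z.presheaf.stalk z)))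
    exact (congrArg a' h₁.symm).trans (h₂.trans (congrArg i Scheme.fromSpecStalk_closedPoint))
  have key : ∀ p : Z', a' (IsLocalRing.closedPoint C) = p →
      ∃ γ : Z'.presheaf.stalk p ⟶ C, Spec.map γ ≫ Z'.fromSpecStalk p = a' := by
    rintro _ rfl
    exact ⟨_, Scheme.Spec_stalkClosedPointTo_fromSpecStalk a'⟩
  obtain ⟨γ, hγ⟩ := key _ hcl
  refine ⟨γ, ⟨?_, ?_⟩, fun δ hδ => ?_⟩
  · apply Spec.map_injective
    rw [← cancel_mono (Z'.fromSpecStalk (i z)), Spec.map_comp_assoc, hγ, hiz]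
    exact ha₁
  · apply Spec.map_injective
    rw [← cancel_mono (X.fromSpecStalk (h' (i z))), Spec.map_comp_assoc,
      Scheme.SpecMap_stalkMap_fromSpecStalk, reassoc_of% hγ]
    exact ha₂
  · apply Spec.map_injective
    rw [← cancel_mono (Z'.fromSpecStalk (i z)), hγ]
    refine hau _ ⟨?_, ?_⟩
    · rw [← Spec.map_comp_assoc, hδ.1, hiz]
    · rw [Category.assoc, ← Scheme.SpecMap_stalkMap_fromSpecStalk h', ← Spec.map_comp_assoc, hδ.2]

/-- Derivations extend uniquely to the local rings of a universal thickening. -/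
theorem existsUnique_stalk_derivation (i : Z ⟶ Z') (h' : Z' ⟶ X)
    (hu : OmegaSh.IsUnivThickening (i ≫ h') i h') (z : Z)
    (M : Type u) [AddCommGroup M] [Module (Z.presheaf.stalk z) M]
    (D : X.presheaf.stalk (h' (i z)) →+ M)
    (hD : ∀ a b, D (a * b) = (i.stalkMap z).hom ((h'.stalkMap (i z)).hom a) • D b +
      (i.stalkMap z).hom ((h'.stalkMap (i z)).hom b) • D a) :
    ∃! D' : Z'.presheaf.stalk (i z) →+ M,
      (∀ a b, D' (a * b) = (i.stalkMap z).hom a • D' b + (i.stalkMap z).hom b • D' a) ∧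
        ∀ a, D' ((h'.stalkMap (i z)).hom a) = D a := by
  let B := Z.presheaf.stalk z
  letI : Module (↑B)ᵐᵒᵖ M := Module.compHom _ ((RingHom.id B).fromOpposite mul_comm)
  haveI : IsCentralScalar B M := ⟨fun r m => rfl⟩
  let C : CommRingCat.{u} := CommRingCat.of (TrivSqZeroExt B M)
  haveI : Nontrivial (TrivSqZeroExt B M) :=
    ⟨0, 1, fun h => zero_ne_one (α := B) (congrArg TrivSqZeroExt.fst h)⟩
  haveI : IsLocalRing C := IsLocalRing.of_isUnit_or_isUnit_one_sub_self fun x => by
    rcases IsLocalRing.isUnit_or_isUnit_one_sub_self (x : TrivSqZeroExt B M).fst with h | h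
    · exact Or.inl (TrivSqZeroExt.isUnit_iff_isUnit_fst.2 h)
    · exact Or.inr (TrivSqZeroExt.isUnit_iff_isUnit_fst.2 h)
  let π : C ⟶ B := CommRingCat.ofHom (TrivSqZeroExt.fstHom B B M).toRingHom
  have hπ : Function.Surjective π.hom := fun b => ⟨TrivSqZeroExt.inl b, rfl⟩
  have hk : RingHom.ker π.hom ^ 2 = ⊥ := by
    rw [pow_two, ← le_bot_iff, Ideal.mul_le]
    intro r hr s hs
    rw [Ideal.mem_bot]
    refine TrivSqZeroExt.ext ?_ ?_
    · show r.fst * s.fst = 0
      rw [show r.fst = 0 from hr, zero_mul]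
    · show r.fst • s.snd + MulOpposite.op s.fst • r.snd = 0
      rw [show r.fst = 0 from hr, show s.fst = 0 from hs, zero_smul, MulOpposite.op_zero, zero_smul, add_zero]
  let β : X.presheaf.stalk (h' (i z)) ⟶ C :=
    CommRingCat.ofHom (sqZeroHom ((i.stalkMap z).hom.comp (h'.stalkMap (i z)).hom) D hD)
  obtain ⟨γ, ⟨hγ₁, hγ₂⟩, huniq⟩ := existsUnique_stalk_lift i h' hu z π hπ hk β rfl
  have hfst : ∀ a, (γ.hom a).fst = (i.stalkMap z).hom a := fun a => congr($(hγ₁).hom a)
  let D' : Z'.presheaf.stalk (i z) →+ M :=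
    AddMonoidHom.mk' (fun a => (γ.hom a).snd) (fun a b => by rw [map_add]; rfl)
  refine ⟨D', ⟨fun a b => ?_, fun a => congrArg TrivSqZeroExt.snd congr($(hγ₂).hom a)⟩, fun E hE => ?_⟩
  · show (γ.hom (a * b)).snd = _
    rw [map_mul]
    show (γ.hom a).fst • (γ.hom b).snd + MulOpposite.op (γ.hom b).fst • (γ.hom a).snd = _
    rw [op_smul_eq_smul, hfst, hfst]
    rfl
  · have h := huniq (CommRingCat.ofHom (sqZeroHom (i.stalkMap z).hom E hE.1))
      ⟨rfl, CommRingCat.hom_ext (RingHom.ext fun a => TrivSqZeroExt.ext rfl (hE.2 a))⟩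
    exact AddMonoidHom.ext fun a => congrArg TrivSqZeroExt.snd congr($(h).hom a)

end GrothLib.ThickOmega4
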