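import Groth.Agent.Lib.ThickOmega4.Alg
import Groth.Agent.Lib.ThickOmega4.Factor
import Groth.Agent.Lib.ThickOmega4.StalkExt
import Groth.Agent.Lib.OX.PullbackStalk
import Groth.Agent.Lib.OX.Exact

/-!
# The differentials of a universal first order thickening, restricted back
-/

set_option autoImplicit false
set_option linter.style.haveILetI false
set_option backward.isDefEq.respectTransparency false
set_option maxHeartbeats 1600000

universe u

open CategoryTheory CategoryTheory.Limits AlgebraicGeometry Opposite
open scoped TensorProduct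
open GrothLib GrothLib.OmegaUniv

noncomputable section

namespace GrothLib.ThickOmega4

attribute [local instance] OmegaUniv.stalkAlg
attribute [local instance] PPGen.compAlg

theorem isIso_pullback_map {Z Z' X S : Scheme.{u}} (q : X ⟶ S) (i : Z ⟶ Z') (h' : Z' ⟶ X)
    (hu : OmegaSh.IsUnivThickening (i ≫ h') i h')
    {ΩX : X.Modules} {dX : OmegaSh.Der q ΩX} (hdX : OmegaSh.IsUniversal dX)
    {ΩZ' : Z'.Modules} {dZ' : OmegaSh.Der (h' ≫ q) ΩZ'} (hdZ' : OmegaSh.IsUniversal dZ')
    (c : (Scheme.Modules.pullback h').obj ΩX ⟶ ΩZ') (hc : OmegaSh.IsDiffCompat h' dX dZ' c) :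
    IsIso ((Scheme.Modules.pullback i).map c) := by
  rw [OX.isIso_iff]
  intro z
  refine (NatIso.isIso_map_iff (OX.pullStalkIso i z) c).2 ?_
  let R := S.presheaf.stalk (q (h' (i z)))
  let A := X.presheaf.stalk (h' (i z))
  let B' := Z'.presheaf.stalk (i z)
  let B := Z.presheaf.stalk z
  letI : Algebra R B' := PPGen.compAlg q h' (i z)
  letI : Algebra R A := stalkAlg q (h' (i z))
  letI : Algebra A B' := stalkAlg h' (i z)
  haveI : IsScalarTower R A B' := PPGen.stalk_tower q h' (i z)
  letI : Algebra B' B := stalkAlg i z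
  have hb : Function.Bijective ((KaehlerDifferential.mapBaseChange R A B').baseChange B) :=
    baseChange_mapBaseChange_bijective (fun M _ _ D hD _ => existsUnique_stalk_derivation i h' hu z M D hD)
  obtain ⟨e, τ, hcx⟩ := exists_stalk_factor q h' (i z) hdX hdZ' c hc
  let cx : St (i z) ((Scheme.Modules.pullback h').obj ΩX) →ₗ[B'] St (i z) ΩZ' := ((OX.stalk (i z)).map c).hom
  have hbc : Function.Bijective (cx.baseChange B) := by
    rw [show cx = τ.toLinearMap ∘ₗ KaehlerDifferential.mapBaseChange R A B' ∘ₗ e.toLinearMap from hcx,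
      LinearMap.baseChange_comp, LinearMap.baseChange_comp]
    exact (τ.baseChange B' B).bijective.comp (hb.comp (e.baseChange B' B).bijective)
  rw [ConcreteCategory.isIso_iff_bijective]
  exact hbc

end GrothLib.ThickOmega4
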