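import Groth.Agent.Lib.ThickOmega4.TransStalk
import Groth.Agent.Lib.ConStalk4.Functorial
import Groth.Agent.Lib.ConStalk4.Seq
import Groth.Agent.Lib.ConStalk4.BaseChange
import Groth.Agent.Lib.UnivThick.Affine
import Groth.Agent.Lib.SmoothLocal6.Geometry
import Groth.Agent.Lib.GrBC.Basic

/-!
# The conormal sequence of universal thickenings over a formally smooth morphism is locally split
-/

set_option autoImplicit false
set_option linter.style.haveILetI false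
set_option backward.isDefEq.respectTransparency false
set_option maxHeartbeats 1000000

universe u

open CategoryTheory CategoryTheory.Limits AlgebraicGeometry Opposite TopologicalSpace
open GrothLib.IdealModSec (val)
open GrothLib.InvExt (mres fres)

noncomputable section

namespace GrothLib.ThickOmega4

/-- Over an affine open of the base thickening the map of universal thickenings has a section. -/
theorem exists_local_section {Z X Y Z' Z'' : Scheme.{u}} {i : Z ⟶ X} {p : X ⟶ Y}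
    (hp : MoreMor.IsFormallySmoothHom p) {i' : Z ⟶ Z'} {a : Z' ⟶ X}
    (hu' : OmegaSh.IsUnivThickening i i' a) {i'' : Z ⟶ Z''} {b : Z'' ⟶ Y}
    (hu'' : OmegaSh.IsUnivThickening (i ≫ p) i'' b) (k : Z' ⟶ Z'') (hk₁ : i' ≫ k = i'') (hk₂ : k ≫ b = a ≫ p)
    {U'' : Z''.Opens} (hU'' : IsAffineOpen U'') :
    ∃ m : (U'' : Scheme.{u}) ⟶ Z', m ≫ k = U''.ι ∧ (i'' ∣_ U'') ≫ m = (i'' ⁻¹ᵁ U'').ι ≫ i' := by
  haveI : IsClosedImmersion i'' := hu''.1.1.1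
  let U := i'' ⁻¹ᵁ U''
  have hU : IsAffineOpen U := hU''.preimage i''
  let π := i''.app U''
  have hπ : Function.Surjective π.hom := i''.app_surjective U'' hU''
  have hk : RingHom.ker π.hom ^ 2 = ⊥ := by
    have h := congrArg (fun J : Z''.IdealSheafData => J.ideal ⟨U'', hU''⟩) hu''.1.2
    rw [pow_two, ← Scheme.Hom.ker_apply i'' ⟨U'', hU''⟩]
    simpa [-Scheme.Hom.ker_apply] using h
  have hsp : Spec.map π ≫ hU''.fromSpec = hU.fromSpec ≫ i'' := by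
    show Spec.map (i''.app U'') ≫ _ = _
    rw [Scheme.Hom.app_eq_appLE]; exact IsAffineOpen.SpecMap_appLE_fromSpec i'' hU'' hU le_rfl
  obtain ⟨l, hl, hlp⟩ := SmoothLocal6.exists_lift_spec p hp π hπ hk (hU.fromSpec ≫ i) (hU''.fromSpec ≫ b) (by
    rw [reassoc_of% hsp, hu''.2.1, Category.assoc])
  have hfot := UnivThick.fot_spec π hπ hk
  obtain ⟨m₀, ⟨hm₀, hm₀a⟩, -⟩ := hu'.2.2 _ _ (Spec.map π) l hU.fromSpec hfot hl
  obtain ⟨w, -, hw⟩ := hu''.2.2 _ _ (Spec.map π) (hU''.fromSpec ≫ b) hU.fromSpec hfot (by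
    rw [reassoc_of% hsp, hu''.2.1])
  have hmk : m₀ ≫ k = hU''.fromSpec := (hw _ ⟨by rw [reassoc_of% hm₀, hk₁],
      by rw [Category.assoc, hk₂, reassoc_of% hm₀a, hlp]⟩).trans (hw _ ⟨hsp, rfl⟩).symm
  refine ⟨hU''.isoSpec.hom ≫ m₀, by rw [Category.assoc, hmk, hU''.isoSpec_hom_fromSpec], ?_⟩
  have he : (i'' ∣_ U'') ≫ hU''.isoSpec.hom = hU.isoSpec.hom ≫ Spec.map π := by
    rw [← cancel_mono hU''.fromSpec, Category.assoc, Category.assoc, hU''.isoSpec_hom_fromSpec, hsp,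
      hU.isoSpec_hom_fromSpec_assoc, morphismRestrict_ι]
  rw [reassoc_of% he, hm₀, hU.isoSpec_hom_fromSpec_assoc]

/-- A section of the map of thickenings splits the map of conormal sheaves. -/
theorem exists_split {Z Z' Z'' : Scheme.{u}} (i' : Z ⟶ Z') [IsClosedImmersion i'] (k : Z' ⟶ Z'')
    [IsClosedImmersion (i' ≫ k)]
    (ψ : (Scheme.Modules.pullback (𝟙 Z)).obj (Omega.conormal (i' ≫ k)) ⟶ Omega.conormal i')
    (hψ : OmegaSh.IsConormalMap i' (i' ≫ k) k (𝟙 Z) ψ) (U'' : Z''.Opens) (m : (U'' : Scheme.{u}) ⟶ Z')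
    (hm : m ≫ k = U''.ι) (hm' : ((i' ≫ k) ∣_ U'') ≫ m = ((i' ≫ k) ⁻¹ᵁ U'').ι ≫ i') :
    ∃ r : (Scheme.Modules.restrictFunctor ((i' ≫ k) ⁻¹ᵁ U'').ι).obj (Omega.conormal i') ⟶
        (Scheme.Modules.restrictFunctor ((i' ≫ k) ⁻¹ᵁ U'').ι).obj
          ((Scheme.Modules.pullback (𝟙 Z)).obj (Omega.conormal (i' ≫ k))),
      (Scheme.Modules.restrictFunctor ((i' ≫ k) ⁻¹ᵁ U'').ι).map ψ ≫ r = 𝟙 _ := by
  let o := ((i' ≫ k) ⁻¹ᵁ U'').ι
  let jU := (i' ≫ k) ∣_ U''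
  have hsq₁ : o ≫ i' ≫ k = jU ≫ U''.ι := (morphismRestrict_ι (i' ≫ k) U'').symm
  have hsq₂ : o ≫ i' = jU ≫ m := hm'.symm
  let A := ConStalk4.sqHom hsq₁
  let B := ConStalk4.sqHom hsq₂
  have hA : OmegaSh.IsConormalMap jU (i' ≫ k) U''.ι o A := by
    obtain ⟨φ, hφ, huq⟩ := ConStalk4.existsUnique hsq₁
    have : A = φ := huq A ⟨hsq₁, fun V s' s hs W h₁ h₂ => by
      rw [ConStalk4.sqHom_app, ConStalk4.sqCls_eq hsq₁ V s' s hs]
      exact InvExt.mres_mres (Omega.conormal jU) _ _ _⟩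
    rwa [this]
  haveI : IsIso A := ConStalk4.isIso_of_flat (isPullback_morphismRestrict (i' ≫ k) U'') A hA
  let P := Scheme.Modules.pullback o
  have key : P.map (ConStalk4.unId ψ) ≫ B = A := by
    let adj := Scheme.Modules.pullbackPushforwardAdjunction o
    refine (adj.homEquiv _ _).injective (PPGen.hom_ext_pullSect (i' ≫ k) (M := ClSub.idealMod (i' ≫ k).ker)
      (G := (Scheme.Modules.pushforward o).obj (Omega.conormal jU)) _ _ fun V n => ?_)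
    refine (congr($(adj.homEquiv_unit _ _ (P.map (ConStalk4.unId ψ) ≫ B)).app ((i' ≫ k) ⁻¹ᵁ V)
      (OmegaSh.conormalSect (i' ≫ k) V n))).trans
      (Eq.trans ?_ (congr($(adj.homEquiv_unit _ _ A).app ((i' ≫ k) ⁻¹ᵁ V) (OmegaSh.conormalSect (i' ≫ k) V n))).symm)
    show B.app (o ⁻¹ᵁ ((i' ≫ k) ⁻¹ᵁ V)) ((P.map (ConStalk4.unId ψ)).app (o ⁻¹ᵁ ((i' ≫ k) ⁻¹ᵁ V))
        (OmegaSh.pullSect o (Omega.conormal (i' ≫ k)) ((i' ≫ k) ⁻¹ᵁ V) (OmegaSh.conormalSect (i' ≫ k) V n))) =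
      A.app (o ⁻¹ᵁ ((i' ≫ k) ⁻¹ᵁ V))
        (OmegaSh.pullSect o (Omega.conormal (i' ≫ k)) ((i' ≫ k) ⁻¹ᵁ V) (OmegaSh.conormalSect (i' ≫ k) V n))
    obtain ⟨s, hs, hψs⟩ := ConStalk4.conormalMap_app k i' ψ hψ V n
    rw [GrBC.pullback_map_pullSect]
    refine (congrArg (fun t => B.app (o ⁻¹ᵁ ((i' ≫ k) ⁻¹ᵁ V))
      (OmegaSh.pullSect o (Omega.conormal i') ((i' ≫ k) ⁻¹ᵁ V) t)) hψs).trans ?_
    show B.app (o ⁻¹ᵁ (i' ⁻¹ᵁ (k ⁻¹ᵁ V)))
      (OmegaSh.pullSect o (Omega.conormal i') (i' ⁻¹ᵁ (k ⁻¹ᵁ V)) (OmegaSh.conormalSect i' (k ⁻¹ᵁ V) s)) = _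
    rw [ConStalk4.sqHom_app, ConStalk4.sqHom_app]
    obtain ⟨t, ht⟩ := ConStalk4.exists_val_of_app_eq_zero jU _ _ (ConStalk4.app_val_sq hsq₁ V n)
    have transport : ∀ (g : (U'' : Scheme.{u}) ⟶ Z'') (_ : g = U''.ι),
        ∃ (hle : g ⁻¹ᵁ V ≤ U''.ι ⁻¹ᵁ V), fres (U'' : Scheme.{u}) hle (U''.ι.app V (val (i' ≫ k).ker V n)) =
          g.app V (val (i' ≫ k).ker V n) := by
      rintro g rfl
      exact ⟨le_rfl, InvExt.fres_self _⟩
    obtain ⟨hle, htr⟩ := transport (m ≫ k) hm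
    have hle' : m ⁻¹ᵁ (k ⁻¹ᵁ V) ≤ U''.ι ⁻¹ᵁ V := hle
    let t' : Γ(ClSub.idealMod jU.ker, m ⁻¹ᵁ (k ⁻¹ᵁ V)) := mres (ClSub.idealMod jU.ker) hle' t
    rw [ConStalk4.sqCls_eq hsq₁ V n t ht, ConStalk4.sqCls_eq hsq₂ (k ⁻¹ᵁ V) s t' (by
      rw [IdealModSec.val_mres, ht]
      refine htr.trans ?_
      rw [Scheme.Hom.comp_app, CommRingCat.comp_apply, ← hs]
      rfl)]
    show mres _ _ (OmegaSh.pullSect jU (ClSub.idealMod jU.ker) _ ((ClSub.idealMod jU.ker).presheaf.map _ t)) = _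
    rw [OmegaSh.pullSect_map jU (ClSub.idealMod jU.ker) hle' t]
    exact InvExt.mres_mres (Omega.conormal jU) _ _ _
  let η := Scheme.Modules.pullbackId Z
  let e := Scheme.Modules.restrictFunctorIsoPullback o
  refine ⟨e.hom.app _ ≫ B ≫ inv A ≫ P.map (η.inv.app (Omega.conormal (i' ≫ k))) ≫ e.inv.app _, ?_⟩
  have hψ' : ψ = η.hom.app (Omega.conormal (i' ≫ k)) ≫ ConStalk4.unId ψ := by
    rw [ConStalk4.unId, Iso.hom_inv_id_app_assoc]
  rw [← Category.assoc, e.hom.naturality, Category.assoc,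
    show P.map ψ = P.map (η.hom.app (Omega.conormal (i' ≫ k))) ≫ P.map (ConStalk4.unId ψ) by
      rw [← P.map_comp, ← hψ'], Category.assoc, reassoc_of% key, IsIso.hom_inv_id_assoc,
    ← P.map_comp_assoc, Iso.hom_inv_id_app, P.map_id, Category.id_comp, Iso.hom_inv_id_app]

end GrothLib.ThickOmega4
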