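import Groth.Agent.Lib.ThickOmega4.StalkExt
import Groth.Agent.Lib.UnivThick.FOT
import Groth.Agent.Lib.ConStalk4.Maps

/-!
# Universal thickenings of a composite: stalks
-/

set_option autoImplicit false
set_option linter.style.haveILetI false
set_option backward.isDefEq.respectTransparency false
set_option maxHeartbeats 800000

universe u

open AlgebraicGeometry CategoryTheory
open GrothLib GrothLib.OmegaUniv
open GrothLib.IdealModSec (val)

noncomputable section

namespace GrothLib.ThickOmega4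

/-- The kernel on local rings of a first order thickening has square zero. -/
theorem ker_stalkMap_sq {W W' : Scheme.{u}} {t : W ⟶ W'} (ht : MoreMor.IsFirstOrderThickening t) (w : W) :
    RingHom.ker (t.stalkMap w).hom ^ 2 = ⊥ := by
  haveI : IsClosedImmersion t := ht.1.1
  rw [pow_two, eq_bot_iff, Ideal.mul_le]
  intro a ha b hb
  obtain ⟨U, hU, m, m', hm, hm'⟩ := OX.germ_exists₂ (DCoh.toP.obj (ClSub.idealMod t.ker))
    (DCoh.toP.obj (ClSub.idealMod t.ker)) ((ConStalk4.idealStalkEquiv t w).symm ⟨a, ha⟩)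
    ((ConStalk4.idealStalkEquiv t w).symm ⟨b, hb⟩)
  obtain ⟨V, hV, hwV, hVU⟩ := TopologicalSpace.Opens.isBasis_iff_nbhd.mp W'.isBasis_affineOpens hU
  have hmem : ∀ n : Γ(ClSub.idealMod t.ker, U),
      W'.presheaf.map (homOfLE hVU).op (val t.ker U n) ∈ t.ker.ideal ⟨V, hV⟩ := fun n => by
    rw [show W'.presheaf.map (homOfLE hVU).op (val t.ker U n) = val t.ker V (InvExt.mres (ClSub.idealMod t.ker) hVU n)
      from (IdealModSec.val_mres t.ker hVU n).symm, Scheme.Hom.ker_apply, RingHom.mem_ker]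
    exact H1Sheaf6.app_val_eq_zero t V _
  have h0 : W'.presheaf.map (homOfLE hVU).op (val t.ker U m) * W'.presheaf.map (homOfLE hVU).op (val t.ker U m') = 0 := by
    have h := Ideal.mul_mem_mul (hmem m) (hmem m')
    have e : (t.ker * t.ker).ideal ⟨V, hV⟩ = ⊥ := by rw [ht.2]; rfl
    rw [Scheme.IdealSheafData.ideal_mul, Pi.mul_apply] at e
    rw [e] at h
    exact (Ideal.mem_bot).1 h
  have hga : W'.presheaf.germ U (t w) hU (val t.ker U m) = a := by
    exact ((ConStalk4.vLin_germ t w U hU m).symm.trans (congrArg _ hm)).trans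
      (congrArg Subtype.val ((ConStalk4.idealStalkEquiv t w).apply_symm_apply _))
  have hgb : W'.presheaf.germ U (t w) hU (val t.ker U m') = b := by
    exact ((ConStalk4.vLin_germ t w U hU m').symm.trans (congrArg _ hm')).trans
      (congrArg Subtype.val ((ConStalk4.idealStalkEquiv t w).apply_symm_apply _))
  rw [Ideal.mem_bot, ← hga, ← hgb, ← W'.presheaf.germ_res_apply (homOfLE hVU) (t w) hwV,
    ← W'.presheaf.germ_res_apply (homOfLE hVU) (t w) hwV, ← map_mul, h0, map_zero]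

variable {Z Y X Z' Y' Z'' : Scheme.{u}} {b : Y ⟶ X} (j : Y ⟶ Y') (d : Y' ⟶ X)
  (i'' : Z ⟶ Z'') (e : Z'' ⟶ Y) (n : Z'' ⟶ Z') (c : Z' ⟶ X) (m : Z' ⟶ Y') (z : Z)

/-- A point of the local scheme lands in the closed subscheme. -/
theorem exists_factor_closed [IsImmersion j] [QuasiCompact j] (y : Y) {C : CommRingCat.{u}}
    (θ : Y'.presheaf.stalk (j y) ⟶ C) (h : ∀ q ∈ ConStalk4.K j y, θ.hom q = 0) :
    ∃ e₀ : Spec C ⟶ Y, e₀ ≫ j = Spec.map θ ≫ Y'.fromSpecStalk (j y) := by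
  have hj := j.stalkMap_surjective y
  let β : Y.presheaf.stalk y ⟶ C := CommRingCat.ofHom
    (RingHom.liftOfRightInverse (j.stalkMap y).hom _ (Function.rightInverse_surjInv hj)
      ⟨θ.hom, fun x hx => h x hx⟩)
  have hβ : j.stalkMap y ≫ β = θ := CommRingCat.hom_ext (RingHom.ext fun x =>
    RingHom.liftOfRightInverse_comp_apply (j.stalkMap y).hom _ (Function.rightInverse_surjInv hj)
      ⟨θ.hom, fun x hx => h x hx⟩ x)
  exact ⟨Spec.map β ≫ Y.fromSpecStalk y, by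
    rw [Category.assoc, ← Scheme.SpecMap_stalkMap_fromSpecStalk, ← Spec.map_comp_assoc, hβ]⟩

/-- The ideal generated by the pullback of the ideal of `Y` in the local ring of `Z'`. -/
def pulledIdeal : Ideal (Z'.presheaf.stalk (n (i'' z))) :=
  Ideal.span {p | ∃ (U : Y'.Opens) (hU : m (n (i'' z)) ∈ U) (s : Γ(ClSub.idealMod j.ker, U)),
    p = Z'.presheaf.germ (m ⁻¹ᵁ U) (n (i'' z)) hU (m.app U (val j.ker U s))}

variable {j d i'' e n c m}

theorem pulledIdeal_le [IsImmersion j] [QuasiCompact j] (hnm : n ≫ m = e ≫ j) :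
    pulledIdeal j i'' n m z ≤ RingHom.ker (n.stalkMap (i'' z)).hom := by
  refine Ideal.span_le.2 ?_
  rintro _ ⟨U, hU, s, rfl⟩
  show (n.stalkMap (i'' z)).hom (Z'.presheaf.germ (m ⁻¹ᵁ U) (n (i'' z)) hU _) = 0
  rw [Scheme.Hom.germ_stalkMap_apply]
  have key : ∀ (q : Z'' ⟶ Y'), q = e ≫ j → q.app U (val j.ker U s) = 0 := by
    rintro q rfl
    show e.app _ (j.app U (val j.ker U s)) = 0
    rw [H1Sheaf6.app_val_eq_zero, map_zero]
  rw [show n.app (m ⁻¹ᵁ U) (m.app U (val j.ker U s)) = 0 from key (n ≫ m) hnm]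
  exact map_zero _

/-- Quotients of the local ring of `Z'` killing the ideal of `Y` receive the local ring of `Z''`. -/
theorem exists_lift [IsImmersion j] [QuasiCompact j]
    (hu' : OmegaSh.IsUnivThickening ((i'' ≫ e) ≫ b) (i'' ≫ n) c)
    (hu'' : OmegaSh.IsUnivThickening (i'' ≫ e) i'' e)
    (hnm : n ≫ m = e ≫ j) (hjd : j ≫ d = b) (hmd : m ≫ d = c)
    {C : CommRingCat.{u}} [IsLocalRing C] (ρ : Z'.presheaf.stalk (n (i'' z)) ⟶ C)
    (π : C ⟶ Z.presheaf.stalk z) (hπ : Function.Surjective π.hom) (hk : RingHom.ker π.hom ^ 2 = ⊥)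
    (hρ : ρ ≫ π = n.stalkMap (i'' z) ≫ i''.stalkMap z)
    (hkill : pulledIdeal j i'' n m z ≤ RingHom.ker ρ.hom) :
    ∃ γ : Z''.presheaf.stalk (i'' z) ⟶ C, n.stalkMap (i'' z) ≫ γ = ρ ∧ γ ≫ π = i''.stalkMap z ∧
      (Spec.map γ ≫ Z''.fromSpecStalk (i'' z)) ≫ e ≫ j = Spec.map ρ ≫ Z'.fromSpecStalk (n (i'' z)) ≫ m := by
  have hfot : MoreMor.IsFirstOrderThickening (Spec.map π) := GrothLib.UnivThick.fot_spec π hπ hk
  have hu : Spec.map π ≫ Spec.map ρ ≫ Z'.fromSpecStalk (n (i'' z)) = Z.fromSpecStalk z ≫ i'' ≫ n := by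
    rw [← Spec.map_comp_assoc, hρ, Spec.map_comp_assoc, Scheme.SpecMap_stalkMap_fromSpecStalk,
      Scheme.SpecMap_stalkMap_fromSpecStalk_assoc]
  have key : ∀ p : Y', m (n (i'' z)) = p → ∃ θ : Y'.presheaf.stalk p ⟶ C,
      Spec.map θ ≫ Y'.fromSpecStalk p = Spec.map ρ ≫ Z'.fromSpecStalk (n (i'' z)) ≫ m ∧
      ∀ (U : Y'.Opens) (hU : p ∈ U) (s : Γ(ClSub.idealMod j.ker, U)),
        θ.hom (Y'.presheaf.germ U p hU (val j.ker U s)) = 0 := by
    rintro _ rfl
    refine ⟨m.stalkMap (n (i'' z)) ≫ ρ, ?_, fun U hU s => ?_⟩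
    · rw [Spec.map_comp_assoc, Scheme.SpecMap_stalkMap_fromSpecStalk]
    · show ρ.hom ((m.stalkMap (n (i'' z))).hom (Y'.presheaf.germ U (m (n (i'' z))) hU (val j.ker U s))) = 0
      rw [Scheme.Hom.germ_stalkMap_apply]
      exact hkill (Ideal.subset_span ⟨U, hU, s, rfl⟩)
  obtain ⟨θ, hθ, hθ0⟩ := key (j (e (i'' z))) congr($hnm (i'' z))
  obtain ⟨e₀, he₀⟩ := exists_factor_closed j (e (i'' z)) θ fun q hq => by
    obtain ⟨U, hU, s, hs⟩ := OX.germ_exists _ ((ConStalk4.idealStalkEquiv j (e (i'' z))).symm ⟨q, hq⟩)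
    have hval : Y'.presheaf.germ U (j (e (i'' z))) hU (val j.ker U s) = q := by
      rw [← ConStalk4.vLin_germ j (e (i'' z)) U hU s, hs]
      exact congrArg Subtype.val ((ConStalk4.idealStalkEquiv j (e (i'' z))).apply_symm_apply _)
    rw [← hval]
    exact hθ0 U hU s
  rw [hθ] at he₀
  have hπe : Spec.map π ≫ e₀ = Z.fromSpecStalk z ≫ i'' ≫ e := by
    rw [← cancel_mono j, Category.assoc, he₀, reassoc_of% hu, hnm]
    simp only [Category.assoc]
  obtain ⟨a, ⟨ha₁, ha₂⟩, -⟩ := hu''.2.2 _ _ (Spec.map π) e₀ (Z.fromSpecStalk z) hfot hπe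
  have hcl : a (IsLocalRing.closedPoint C) = i'' z := by
    haveI : IsLocalHom π.hom := IsLocalHom.of_surjective _ hπ
    have h₁ : (Spec.map π) (IsLocalRing.closedPoint (Z.presheaf.stalk z)) = IsLocalRing.closedPoint C :=
      IsLocalRing.comap_closedPoint π.hom
    have h₂ := congr($ha₁ (IsLocalRing.closedPoint (Z.presheaf.stalk z)))
    exact (congrArg a h₁.symm).trans (h₂.trans (congrArg i'' Scheme.fromSpecStalk_closedPoint))
  have key₂ : ∀ p : Z'', a (IsLocalRing.closedPoint C) = p →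
      ∃ γ : Z''.presheaf.stalk p ⟶ C, Spec.map γ ≫ Z''.fromSpecStalk p = a := by
    rintro _ rfl
    exact ⟨_, Scheme.Spec_stalkClosedPointTo_fromSpecStalk a⟩
  obtain ⟨γ, hγ⟩ := key₂ _ hcl
  obtain ⟨a', -, hau⟩ := hu'.2.2 _ _ (Spec.map π) (Spec.map ρ ≫ Z'.fromSpecStalk (n (i'' z)) ≫ c)
    (Z.fromSpecStalk z) hfot (by
      rw [reassoc_of% hu, ← hjd, ← hmd, reassoc_of% hnm]
      simp only [Category.assoc])
  have hu₁ := hau (Spec.map ρ ≫ Z'.fromSpecStalk (n (i'' z))) ⟨hu, Category.assoc _ _ _⟩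
  have hu₂ := hau (a ≫ n) ⟨by rw [reassoc_of% ha₁], by
    rw [← hmd, Category.assoc, reassoc_of% hnm, reassoc_of% ha₂, reassoc_of% he₀]⟩
  refine ⟨γ, ?_, ?_, ?_⟩
  · apply Spec.map_injective
    rw [← cancel_mono (Z'.fromSpecStalk (n (i'' z))), Spec.map_comp_assoc,
      Scheme.SpecMap_stalkMap_fromSpecStalk, reassoc_of% hγ]
    exact hu₂.trans hu₁.symm
  · apply Spec.map_injective
    rw [← cancel_mono (Z''.fromSpecStalk (i'' z)), Spec.map_comp_assoc, hγ,
      Scheme.SpecMap_stalkMap_fromSpecStalk]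
    exact ha₁
  · rw [hγ, reassoc_of% ha₂]
    exact he₀

/-- The map of local rings `O_{Z'} → O_{Z''}` is surjective with kernel inside the pulled back ideal. -/
theorem stalk_surjective_and_ker_le [IsImmersion j] [QuasiCompact j]
    (hu' : OmegaSh.IsUnivThickening ((i'' ≫ e) ≫ b) (i'' ≫ n) c)
    (hu'' : OmegaSh.IsUnivThickening (i'' ≫ e) i'' e)
    (hnm : n ≫ m = e ≫ j) (hjd : j ≫ d = b) (hmd : m ≫ d = c) :
    Function.Surjective (n.stalkMap (i'' z)).hom ∧
      RingHom.ker (n.stalkMap (i'' z)).hom ≤ pulledIdeal j i'' n m z := by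
  haveI := UnivThick.fot_isClosedImmersion hu'.1
  haveI := UnivThick.fot_isClosedImmersion hu''.1
  let ν := n.stalkMap (i'' z)
  let w := i''.stalkMap z
  have hs' : Function.Surjective (ν ≫ w).hom := by
    have h := (i'' ≫ n).stalkMap_surjective z
    rw [Scheme.Hom.stalkMap_comp] at h
    exact h
  have hsq' : RingHom.ker (ν ≫ w).hom ^ 2 = ⊥ := by
    have h := ker_stalkMap_sq hu'.1 z
    rw [Scheme.Hom.stalkMap_comp] at h
    exact h
  have hsq'' : RingHom.ker w.hom ^ 2 = ⊥ := ker_stalkMap_sq hu''.1 z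
  constructor
  · let S : CommRingCat.{u} := CommRingCat.of ν.hom.range
    let ι : S ⟶ Z''.presheaf.stalk (i'' z) := CommRingCat.ofHom ν.hom.range.subtype
    let ρ : Z'.presheaf.stalk (n (i'' z)) ⟶ S := CommRingCat.ofHom ν.hom.rangeRestrict
    haveI : IsLocalRing S := IsLocalRing.of_surjective' ν.hom.rangeRestrict ν.hom.rangeRestrict_surjective
    have hπ : Function.Surjective (ι ≫ w).hom := fun x => by
      obtain ⟨p, hp⟩ := hs' x
      exact ⟨ρ.hom p, hp⟩
    have hk : RingHom.ker (ι ≫ w).hom ^ 2 = ⊥ := by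
      rw [pow_two, eq_bot_iff, Ideal.mul_le]
      intro r hr s hs
      rw [Ideal.mem_bot]
      apply Subtype.ext
      have := Ideal.mul_mem_mul (show ι.hom r ∈ RingHom.ker w.hom from hr)
        (show ι.hom s ∈ RingHom.ker w.hom from hs)
      rw [← pow_two, hsq'', Ideal.mem_bot] at this
      exact this
    obtain ⟨γ, hγ₁, hγ₂, hγ₃⟩ := exists_lift z hu' hu'' hnm hjd hmd ρ (ι ≫ w) hπ hk rfl
      fun p hp => Subtype.ext (pulledIdeal_le z hnm hp)
    have hwsurj : Function.Surjective w.hom := i''.stalkMap_surjective z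
    obtain ⟨a, -, hau⟩ := hu''.2.2 _ _ (Spec.map w) (Z''.fromSpecStalk (i'' z) ≫ e) (Z.fromSpecStalk z)
      (GrothLib.UnivThick.fot_spec w hwsurj hsq'') (by
        rw [← Category.assoc, Scheme.SpecMap_stalkMap_fromSpecStalk, Category.assoc])
    have h₁ := hau (Z''.fromSpecStalk (i'' z)) ⟨Scheme.SpecMap_stalkMap_fromSpecStalk i'', rfl⟩
    have h₂ := hau (Spec.map (γ ≫ ι) ≫ Z''.fromSpecStalk (i'' z)) ⟨by
      rw [← Spec.map_comp_assoc, Category.assoc, hγ₂, Scheme.SpecMap_stalkMap_fromSpecStalk], by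
      rw [← cancel_mono j]
      simp only [Category.assoc] at hγ₃ ⊢
      rw [Spec.map_comp_assoc, hγ₃, ← Spec.map_comp_assoc, show ρ ≫ ι = ν from rfl,
        Scheme.SpecMap_stalkMap_fromSpecStalk_assoc, hnm]⟩
    have hid : γ ≫ ι = 𝟙 _ := Spec.map_injective (by
      rw [← cancel_mono (Z''.fromSpecStalk (i'' z)), Spec.map_id, Category.id_comp]
      exact h₂.trans h₁.symm)
    intro x
    obtain ⟨p, hp⟩ := (γ.hom x).2
    exact ⟨p, hp.trans congr($(hid).hom x)⟩
  · let 𝔞 := pulledIdeal j i'' n m z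
    have h𝔞 : 𝔞 ≤ RingHom.ker (ν ≫ w).hom := fun p hp => by
      show w.hom (ν.hom p) = 0
      rw [show ν.hom p = 0 from pulledIdeal_le z hnm hp, map_zero]
    let P : CommRingCat.{u} := CommRingCat.of (Z'.presheaf.stalk (n (i'' z)) ⧸ 𝔞)
    let ρ : Z'.presheaf.stalk (n (i'' z)) ⟶ P := CommRingCat.ofHom (Ideal.Quotient.mk 𝔞)
    let π : P ⟶ Z.presheaf.stalk z := CommRingCat.ofHom (Ideal.Quotient.lift 𝔞 (ν ≫ w).hom h𝔞)
    have hπ : Function.Surjective π.hom := fun x => by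
      obtain ⟨p, hp⟩ := hs' x
      exact ⟨ρ.hom p, hp⟩
    haveI : Nontrivial (Z'.presheaf.stalk (n (i'' z)) ⧸ 𝔞) := π.hom.domain_nontrivial
    haveI : IsLocalRing P := IsLocalRing.of_surjective' (Ideal.Quotient.mk 𝔞) Ideal.Quotient.mk_surjective
    have hk : RingHom.ker π.hom ^ 2 = ⊥ := by
      rw [pow_two, eq_bot_iff, Ideal.mul_le]
      intro r hr s hs
      obtain ⟨r, rfl⟩ := Ideal.Quotient.mk_surjective r
      obtain ⟨s, rfl⟩ := Ideal.Quotient.mk_surjective s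
      have := Ideal.mul_mem_mul (show r ∈ RingHom.ker (ν ≫ w).hom from hr)
        (show s ∈ RingHom.ker (ν ≫ w).hom from hs)
      rw [← pow_two, hsq', Ideal.mem_bot] at this
      rw [Ideal.mem_bot, ← map_mul, this, map_zero]
    obtain ⟨γ, hγ₁, -, -⟩ := exists_lift z hu' hu'' hnm hjd hmd ρ π hπ hk rfl
      fun p hp => Ideal.Quotient.eq_zero_iff_mem.2 hp
    intro p hp
    refine Ideal.Quotient.eq_zero_iff_mem.1 ?_
    rw [← show γ.hom (ν.hom p) = Ideal.Quotient.mk 𝔞 p from congr($(hγ₁).hom p),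
      show ν.hom p = 0 from hp, map_zero]

end GrothLib.ThickOmega4
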